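import Mathlib

/-!
Right derived functors commute with exact functors that preserve injective objects.
-/

universe v₁ v₂ v₃ v₄ u₁ u₂ u₃ u₄

set_option autoImplicit false

open CategoryTheory CategoryTheory.Limits

namespace Groth.Agent.ModSite9

variable {A : Type u₁} [Category.{v₁} A] [Abelian A] {A' : Type u₂} [Category.{v₂} A'] [Abelian A']
  {B : Type u₃} [Category.{v₃} B] [Abelian B] {B' : Type u₄} [Category.{v₄} B'] [Abelian B']

/-- image of an injective resolution -/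
noncomputable def mapRes (P : A ⥤ A') [P.Additive] [P.PreservesHomology] [P.PreservesInjectiveObjects]
    {X : A} (I : InjectiveResolution X) : InjectiveResolution (P.obj X) where
  cocomplex := (P.mapHomologicalComplex _).obj I.cocomplex
  injective n := P.injective_obj_of_injective (I.injective n)
  ι := ((HomologicalComplex.singleMapHomologicalComplex P (ComplexShape.up ℕ) 0).app X).inv ≫
    (P.mapHomologicalComplex _).map I.ι

variable (F₁ : A ⥤ B) [F₁.Additive] (F₂ : A' ⥤ B') [F₂.Additive] (P : A ⥤ A') [P.Additive]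
  [P.PreservesHomology] [P.PreservesInjectiveObjects] (Q : B ⥤ B') [Q.Additive] [Q.PreservesHomology]
  [HasInjectiveResolutions A] [HasInjectiveResolutions A']

/-- the comparison of complexes -/
noncomputable def cxIso (e : F₁ ⋙ Q ≅ P ⋙ F₂) (K : CochainComplex A ℕ) :
    (Q.mapHomologicalComplex _).obj ((F₁.mapHomologicalComplex _).obj K) ≅
      (F₂.mapHomologicalComplex _).obj ((P.mapHomologicalComplex _).obj K) :=
  HomologicalComplex.Hom.isoOfComponents (fun i => e.app (K.X i)) (fun i j _ => (e.hom.naturality (K.d i j)).symm)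

theorem cxIso_natural (e : F₁ ⋙ Q ≅ P ⋙ F₂) {K L : CochainComplex A ℕ} (φ : K ⟶ L) :
    (Q.mapHomologicalComplex _).map ((F₁.mapHomologicalComplex _).map φ) ≫ (cxIso F₁ F₂ P Q e L).hom =
      (cxIso F₁ F₂ P Q e K).hom ≫ (F₂.mapHomologicalComplex _).map ((P.mapHomologicalComplex _).map φ) := by
  ext i
  exact e.hom.naturality (φ.f i)

theorem mapHomology_natural {K L : CochainComplex B ℕ} (φ : K ⟶ L) (n : ℕ) :
    Q.map (HomologicalComplex.homologyMap φ n) ≫ ((L.sc n).mapHomologyIso Q).inv =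
      ((K.sc n).mapHomologyIso Q).inv ≫ HomologicalComplex.homologyMap ((Q.mapHomologicalComplex _).map φ) n :=
  ShortComplex.mapHomologyIso_inv_naturality ((HomologicalComplex.shortComplexFunctor B _ n).map φ) Q

omit [Abelian B'] in
theorem chain {a₁ a₂ a₃ a₄ a₅ b₁ b₂ b₃ b₄ b₅ : B'} {x₁ : a₁ ⟶ b₁} {x₂ : a₂ ⟶ b₂} {x₃ : a₃ ⟶ b₃} {x₄ : a₄ ⟶ b₄}
    {x₅ : a₅ ⟶ b₅} {p₁ : a₁ ⟶ a₂} {p₂ : a₂ ⟶ a₃} {p₃ : a₃ ⟶ a₄} {p₄ : a₄ ⟶ a₅}
    {q₁ : b₁ ⟶ b₂} {q₂ : b₂ ⟶ b₃} {q₃ : b₃ ⟶ b₄} {q₄ : b₄ ⟶ b₅}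
    (h1 : x₁ ≫ q₁ = p₁ ≫ x₂) (h2 : x₂ ≫ q₂ = p₂ ≫ x₃) (h3 : x₃ ≫ q₃ = p₃ ≫ x₄) (h4 : x₄ ≫ q₄ = p₄ ≫ x₅) :
    x₁ ≫ q₁ ≫ q₂ ≫ q₃ ≫ q₄ = (p₁ ≫ p₂ ≫ p₃ ≫ p₄) ≫ x₅ := by
  rw [reassoc_of% h1, reassoc_of% h2, reassoc_of% h3, h4]
  simp only [Category.assoc]

/-- `R^n F₁ ⋙ Q ≅ P ⋙ R^n F₂` -/
noncomputable def derivedComm (e : F₁ ⋙ Q ≅ P ⋙ F₂) (n : ℕ) :
    F₁.rightDerived n ⋙ Q ≅ P ⋙ F₂.rightDerived n :=
  NatIso.ofComponents
    (fun X => Q.mapIso ((injectiveResolution X).isoRightDerivedObj F₁ n) ≪≫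
      ((((F₁.mapHomologicalComplex _).obj (injectiveResolution X).cocomplex).sc n).mapHomologyIso Q).symm ≪≫
      (HomologicalComplex.homologyFunctor B' _ n).mapIso (cxIso F₁ F₂ P Q e (injectiveResolution X).cocomplex) ≪≫
      ((mapRes P (injectiveResolution X)).isoRightDerivedObj F₂ n).symm)
    (fun {X Y} f => by
      let I := injectiveResolution X
      let K := injectiveResolution Y
      let φ : I.cocomplex ⟶ K.cocomplex := InjectiveResolution.desc f K I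
      have hφ : I.ι.f 0 ≫ φ.f 0 = f ≫ K.ι.f 0 := InjectiveResolution.desc_commutes_zero f K I
      have hP : (mapRes P I).ι.f 0 ≫ ((P.mapHomologicalComplex _).map φ).f 0 = P.map f ≫ (mapRes P K).ι.f 0 := by
        show (𝟙 _ ≫ P.map (I.ι.f 0)) ≫ P.map (φ.f 0) = P.map f ≫ 𝟙 _ ≫ P.map (K.ι.f 0)
        rw [Category.id_comp, Category.id_comp, ← P.map_comp, hφ]
        exact P.map_comp _ _
      have h1 := congrArg Q.map (InjectiveResolution.isoRightDerivedObj_hom_naturality f I K φ hφ F₁ n)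
      have h2 := InjectiveResolution.isoRightDerivedObj_inv_naturality (P.map f) (mapRes P I) (mapRes P K)
        ((P.mapHomologicalComplex _).map φ) hP F₂ n
      rw [Q.map_comp, Q.map_comp] at h1
      have h3 := mapHomology_natural Q ((F₁.mapHomologicalComplex _).map φ) n
      have h4 := congrArg (fun z => (HomologicalComplex.homologyFunctor B' _ n).map z) (cxIso_natural F₁ F₂ P Q e φ)
      simp only [Functor.map_comp] at h4
      exact chain h1 h3 h4 h2.symm)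

end Groth.Agent.ModSite9
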