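import Groth.Agent.ModSite9.Projection
import Mathlib.RingTheory.Flat.EquationalCriterion

/-!
The equational criterion of flatness on a ringed site.
-/

universe u

set_option autoImplicit false

open CategoryTheory CategoryTheory.Limits MonoidalCategory Opposite TensorProduct

namespace Groth.Agent.ModSite9

open ModTensor

variable {C : Type u} [SmallCategory C] {J : GrothendieckTopology C} {O : Sheaf J CommRingCat.{u}}

theorem isSheaf_psh (M : ModSite.Mod O) :
    Presieve.IsSheaf J ((psh M).presheaf ⋙ forget AddCommGrpCat.{u}) :=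
  (isSheaf_iff_isSheaf_of_type J _).1
    ((Presheaf.isSheaf_iff_isSheaf_forget J _ (forget AddCommGrpCat.{u})).1 M.isSheaf)

theorem res_map_zero (P : Psh O) {U V : C} (g : V ⟶ U) : P.presheaf.map g.op 0 = 0 := map_zero (P.presheaf.map g.op).hom

/-- for a flat `F`, a section killed by `φ ▷ F` comes locally from the kernel -/
theorem exists_lift_kernel {F : ModSite.Mod O} (hF : ModSite.IsFlat F) {P Q : Psh O} (φ : P ⟶ Q) (U : C)
    (y : (P ⊗ psh F).obj (op U)) (hy : (φ ▷ psh F).app (op U) y = 0) :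
    ∃ S ∈ J U, ∀ ⦃V : C⦄ (g : V ⟶ U), S g → ∃ w : (kernel φ ⊗ psh F).obj (op V),
      (kernel.ι φ ▷ psh F).app (op V) w = (P ⊗ psh F).presheaf.map g.op y := by
  haveI : PreservesFiniteLimits (sh O) :=
    (inferInstance : PreservesFiniteLimits (PresheafOfModules.sheafification.{u} (𝟙 (ModSite.ringSh O).obj)))
  haveI := hF.1
  haveI : PreservesFiniteLimits (tensorRight (psh F) ⋙ sh O) :=
    preservesFiniteLimits_of_natIso (shCompTensorIso F).symm
  haveI : PreservesFiniteLimits (SheafOfModules.forget (ModSite.ringSh O)) := inferInstance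
  haveI : PreservesFiniteLimits (fgt O) :=
    (inferInstance : PreservesFiniteLimits (SheafOfModules.forget.{u} (ModSite.ringSh O)))
  haveI : PreservesFiniteLimits (PresheafOfModules.toPresheaf.{u} (O.obj ⋙ forget₂ CommRingCat.{u} RingCat.{u})) :=
    inferInstance
  let H : Psh O ⥤ AddCommGrpCat.{u} :=
    (tensorRight (psh F) ⋙ sh O) ⋙ fgt O ⋙ PresheafOfModules.toPresheaf _ ⋙ (evaluation Cᵒᵖ AddCommGrpCat.{u}).obj (op U)
  haveI : H.PreservesZeroMorphisms := Functor.preservesZeroMorphisms_of_preserves_terminal_object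
  let S₀ := ShortComplex.mk (kernel.ι φ) φ (kernel.condition φ)
  have hS : (S₀.map H).Exact :=
    ShortComplex.exact_of_f_is_kernel _ (KernelFork.mapIsLimit _ (kernelIsKernel φ) H)
  let η₂ := (η (O := O) (P ⊗ psh F)).app (op U) y
  have hz : (S₀.map H).g η₂ = 0 := by
    refine Eq.trans ?_ ((congrArg ((η (Q ⊗ psh F)).app (op U)) hy).trans (map_zero ((η (Q ⊗ psh F)).app (op U)).hom))
    exact (ConcreteCategory.congr_hom (congr_arg (fun a => PresheafOfModules.Hom.app a (op U))
      ((ModTensor.adj O).unit.naturality (φ ▷ psh F))) y).symm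
  obtain ⟨z, hz'⟩ := (ShortComplex.ab_exact_iff _).1 hS η₂ hz
  have hS₁ : Presheaf.imageSieve ((PresheafOfModules.toPresheaf _).map (η (kernel φ ⊗ psh F))) z ∈ J U :=
    Presheaf.imageSieve_mem J _ _
  refine ⟨_, J.bind_covering (R := fun {V} g (hg : Presheaf.imageSieve
      ((PresheafOfModules.toPresheaf _).map (η (kernel φ ⊗ psh F))) z g) =>
      Presheaf.equalizerSieve (F := (P ⊗ psh F).presheaf) (X := op V) ((kernel.ι φ ▷ psh F).app (op V) hg.choose)
        ((P ⊗ psh F).presheaf.map g.op y)) hS₁ (fun {V} g hg => ?_), ?_⟩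
  · refine Presheaf.equalizerSieve_mem J ((PresheafOfModules.toPresheaf _).map (η (P ⊗ psh F))) _ _ ?_
    have h1 := ConcreteCategory.congr_hom (congr_arg (fun a => PresheafOfModules.Hom.app a (op V))
      ((ModTensor.adj O).unit.naturality (kernel.ι φ ▷ psh F))) hg.choose
    refine h1.trans ?_
    have h2 := NatTrans.naturality_apply ((PresheafOfModules.toPresheaf _).map (η (P ⊗ psh F))) g.op y
    refine Eq.trans ?_ h2.symm
    refine (congrArg _ hg.choose_spec).trans ?_
    refine (NatTrans.naturality_apply ((PresheafOfModules.toPresheaf _).map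
      ((fgt O).map ((sh O).map (kernel.ι φ ▷ psh F)))) g.op z).trans ?_
    exact congrArg _ hz'
  · rintro W _ ⟨V, k, g, hg, hk, rfl⟩
    refine ⟨(kernel φ ⊗ psh F).presheaf.map k.op hg.choose, ?_⟩
    refine (NatTrans.naturality_apply ((PresheafOfModules.toPresheaf _).map (kernel.ι φ ▷ psh F)) k.op hg.choose).trans ?_
    refine Eq.trans hk ?_
    rw [← ConcreteCategory.comp_apply, ← Functor.map_comp, ← op_comp]

/-- sheafification of a locally injective map is mono -/
theorem mono_sh_map {P Q : Psh O} (φ : P ⟶ Q)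
    (h : ∀ (V : C) (w : P.obj (op V)), φ.app (op V) w = 0 →
      ∃ S ∈ J V, ∀ ⦃W : C⦄ (g : W ⟶ V), S g → P.presheaf.map g.op w = 0) :
    Mono ((sh O).map φ) := by
  haveI : ∀ V, Mono (((fgt O ⋙ PresheafOfModules.toPresheaf _).map ((sh O).map φ)).app V) := fun ⟨U⟩ => by
    rw [AddCommGrpCat.mono_iff_injective, injective_iff_map_eq_zero]
    intro z hz
    refine ((isSheaf_psh ((sh O).obj P)).isSeparated _ (Presheaf.imageSieve_mem J
      ((PresheafOfModules.toPresheaf _).map (η P)) z)).ext fun V g hg => ?_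
    change (psh ((sh O).obj P)).presheaf.map g.op z = (psh ((sh O).obj P)).presheaf.map g.op 0
    rw [map_zero]
    have hφ : (η Q).app (op V) (φ.app (op V) hg.choose) = (η Q).app (op V) 0 := by
      rw [map_zero]
      refine (ConcreteCategory.congr_hom (congr_arg (fun a => PresheafOfModules.Hom.app a (op V))
        ((ModTensor.adj O).unit.naturality φ)) hg.choose).trans ?_
      refine (congrArg _ hg.choose_spec).trans ?_
      refine (NatTrans.naturality_apply ((PresheafOfModules.toPresheaf _).map ((fgt O).map ((sh O).map φ))) g.op z).trans ?_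
      exact (congrArg _ hz).trans (map_zero _)
    refine hg.choose_spec.symm.trans ?_
    refine ((isSheaf_psh ((sh O).obj P)).isSeparated _ (Presheaf.equalizerSieve_mem J
      ((PresheafOfModules.toPresheaf _).map (η Q)) _ _ hφ)).ext fun W k hk => ?_
    change (psh ((sh O).obj P)).presheaf.map k.op ((η P).app (op V) hg.choose) =
      (psh ((sh O).obj P)).presheaf.map k.op 0
    rw [map_zero]
    have hk0 : φ.app (op W) (P.presheaf.map k.op hg.choose) = 0 :=
      (NatTrans.naturality_apply ((PresheafOfModules.toPresheaf _).map φ) k.op hg.choose).trans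
        (hk.trans (res_map_zero Q k))
    obtain ⟨T, hT, hT'⟩ := h W _ hk0
    refine (NatTrans.naturality_apply ((PresheafOfModules.toPresheaf _).map (η P)) k.op hg.choose).symm.trans ?_
    refine ((isSheaf_psh ((sh O).obj P)).isSeparated _ hT).ext fun W' l hl => ?_
    change (psh ((sh O).obj P)).presheaf.map l.op _ = (psh ((sh O).obj P)).presheaf.map l.op 0
    rw [map_zero]
    refine (NatTrans.naturality_apply ((PresheafOfModules.toPresheaf _).map (η P)) l.op _).symm.trans ?_
    exact (congrArg _ (hT' l hl)).trans (map_zero _)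
  haveI : Mono ((fgt O ⋙ PresheafOfModules.toPresheaf _).map ((sh O).map φ)) := NatTrans.mono_of_mono_app _
  haveI : (fgt O).Faithful := (inferInstance : (SheafOfModules.forget.{u} (ModSite.ringSh O)).Faithful)
  exact (fgt O ⋙ PresheafOfModules.toPresheaf _).mono_of_mono_map inferInstance

/-- relations in `F` are locally trivial -/
def RelTriv (F : ModSite.Mod O) : Prop :=
  ∀ (U : C) (n : ℕ) (f : Fin n → O.obj.obj (op U)) (s : Fin n → ModSite.sect F U),
    ∑ j, f j • s j = 0 →
    ∃ S ∈ J U, ∀ ⦃V : C⦄ (g : V ⟶ U), S g →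
      ∃ (l : ℕ) (t : Fin l → ModSite.sect F V) (a : Fin n → Fin l → O.obj.obj (op V)),
        (∀ j, (F.val.map g.op).hom (s j) = ∑ k, a j k • t k) ∧
        (∀ k, ∑ j, a j k * (O.obj.map g.op).hom (f j) = 0)

section free

variable (O) (n : ℕ)

/-- `O^n` as a presheaf of abelian groups -/
noncomputable def piAb : Cᵒᵖ ⥤ AddCommGrpCat.{u} where
  obj W := AddCommGrpCat.of (Fin n → O.obj.obj W)
  map g := AddCommGrpCat.ofHom
    { toFun := fun a j => (O.obj.map g).hom (a j)
      map_zero' := funext fun _ => map_zero _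
      map_add' := fun _ _ => funext fun _ => map_add _ _ _ }
  map_id W := AddCommGrpCat.hom_ext (AddMonoidHom.ext fun a => funext fun j => by
    show (O.obj.map (𝟙 W)).hom (a j) = a j
    simp)
  map_comp g h := AddCommGrpCat.hom_ext (AddMonoidHom.ext fun a => funext fun j => by
    show (O.obj.map (g ≫ h)).hom (a j) = (O.obj.map h).hom ((O.obj.map g).hom (a j))
    simp)

noncomputable instance (W : Cᵒᵖ) : Module ((O.obj ⋙ forget₂ CommRingCat.{u} RingCat.{u}).obj W) ((piAb O n).obj W) :=
  inferInstanceAs (Module (O.obj.obj W) (Fin n → O.obj.obj W))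

/-- `O^n` -/
noncomputable def piPsh : Psh O :=
  PresheafOfModules.ofPresheaf (R := O.obj ⋙ forget₂ CommRingCat.{u} RingCat.{u}) (piAb O n)
    (fun {W W'} g r a => funext fun j => map_mul (O.obj.map g).hom r (a j))

variable {O n}

/-- the map `O^n ⟶ O` given by compatible coefficients -/
noncomputable def coeffHom (f : ∀ W : Cᵒᵖ, Fin n → O.obj.obj W)
    (hf : ∀ ⦃W W' : Cᵒᵖ⦄ (g : W ⟶ W') j, (O.obj.map g).hom (f W j) = f W' j) : piPsh O n ⟶ 𝟙_ (Psh O) where
  app W := ModuleCat.ofHom (R := O.obj.obj W) (X := Fin n → O.obj.obj W) (Y := O.obj.obj W)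
    (∑ j, (LinearMap.mulRight (O.obj.obj W) (f W j)).comp (LinearMap.proj j))
  naturality {W W'} g := by
    ext1
    ext a
    show (∑ j, (LinearMap.mulRight (O.obj.obj W') (f W' j)).comp (LinearMap.proj j)) (fun j => (O.obj.map g).hom (a j)) =
      (O.obj.map g).hom ((∑ j, (LinearMap.mulRight (O.obj.obj W) (f W j)).comp (LinearMap.proj j)) a)
    simp only [LinearMap.sum_apply, LinearMap.comp_apply, LinearMap.proj_apply, LinearMap.mulRight_apply, map_sum,
      map_mul, hf]

end free

theorem relTriv_global {F : ModSite.Mod O} (hF : ModSite.IsFlat F) {n : ℕ} (f : ∀ W : Cᵒᵖ, Fin n → O.obj.obj W)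
    (hf : ∀ ⦃W W' : Cᵒᵖ⦄ (g : W ⟶ W') j, (O.obj.map g).hom (f W j) = f W' j) (U : C)
    (s : Fin n → ModSite.sect F U) (hs : ∑ j, f (op U) j • s j = 0) :
    ∃ S ∈ J U, ∀ ⦃V : C⦄ (g : V ⟶ U), S g →
      ∃ (l : ℕ) (t : Fin l → ModSite.sect F V) (a : Fin n → Fin l → O.obj.obj (op V)),
        (∀ j, (F.val.map g.op).hom (s j) = ∑ k, a j k • t k) ∧
        (∀ k, ∑ j, a j k * f (op V) j = 0) := by
  classical
  let y : (piPsh O n ⊗ psh F).obj (op U) :=
    ∑ j, (Pi.single j 1 : Fin n → O.obj.obj (op U)) ⊗ₜ[O.obj.obj (op U)] (s j : (psh F).obj (op U))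
  have hy : (coeffHom f hf ▷ psh F).app (op U) y = 0 := by
    refine (map_sum ((coeffHom f hf ▷ psh F).app (op U)).hom _ _).trans ?_
    have e : ∀ j, ((coeffHom f hf ▷ psh F).app (op U)).hom
        ((Pi.single j 1 : Fin n → O.obj.obj (op U)) ⊗ₜ[O.obj.obj (op U)] (s j : (psh F).obj (op U))) =
        (1 : O.obj.obj (op U)) ⊗ₜ[O.obj.obj (op U)] (f (op U) j • s j : (psh F).obj (op U)) := fun j => by
      show ((∑ i, (LinearMap.mulRight (O.obj.obj (op U)) (f (op U) i)).comp (LinearMap.proj i))
        (Pi.single j 1 : Fin n → O.obj.obj (op U))) ⊗ₜ[O.obj.obj (op U)] (s j : (psh F).obj (op U)) = _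
      rw [TensorProduct.tmul_smul, TensorProduct.smul_tmul']
      simp [Pi.single_apply]
    refine (Finset.sum_congr rfl fun j _ => e j).trans ?_
    exact ((TensorProduct.tmul_sum (R := O.obj.obj (op U)) (1 : O.obj.obj (op U)) Finset.univ
      (fun j => (f (op U) j • s j : (psh F).obj (op U)))).symm.trans
      ((congrArg _ hs).trans (TensorProduct.tmul_zero _ _)))
  obtain ⟨S, hS, hS'⟩ := exists_lift_kernel hF (coeffHom f hf) U y hy
  refine ⟨S, hS, fun V g hg => ?_⟩
  obtain ⟨w, hw⟩ := hS' g hg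
  obtain ⟨l, k, t, hwk⟩ := TensorProduct.exists_sum_tmul_eq (R := O.obj.obj (op V))
    (M := (kernel (coeffHom f hf)).obj (op V)) (N := (psh F).obj (op V)) w
  let ι' : (kernel (coeffHom f hf)).obj (op V) → (Fin n → O.obj.obj (op V)) := fun x =>
    (kernel.ι (coeffHom f hf)).app (op V) x
  refine ⟨l, t, fun j m => ι' (k m) j, fun j => ?_, fun m => ?_⟩
  · let π : ∀ W : Cᵒᵖ, (Fin n → O.obj.obj W) ⊗[O.obj.obj W] ((psh F).obj W) →ₗ[O.obj.obj W] (psh F).obj W := fun W =>
      TensorProduct.lift ((LinearMap.lsmul (O.obj.obj W) ((psh F).obj W)).comp (LinearMap.proj j))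
    let sV : Fin n → (psh F).obj (op V) := fun i => (psh F).presheaf.map g.op (s i)
    have h1 : π (op V) ((piPsh O n ⊗ psh F).presheaf.map g.op y) = (F.val.map g.op).hom (s j) := by
      refine (congrArg (π (op V)) (map_sum ((piPsh O n ⊗ psh F).presheaf.map g.op).hom _ _)).trans ?_
      refine (map_sum (π (op V)) _ _).trans ?_
      rw [Finset.sum_eq_single j]
      · show (O.obj.map g.op).hom ((Pi.single j 1 : Fin n → O.obj.obj (op U)) j) • sV j = sV j
        simp
      · intro i _ hij
        show (O.obj.map g.op).hom ((Pi.single i 1 : Fin n → O.obj.obj (op U)) j) • sV i = 0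
        simp [Pi.single_apply, Ne.symm hij]
      · simp
    refine h1.symm.trans ((congrArg (π (op V)) hw.symm).trans ?_)
    rw [hwk]
    refine (congrArg (π (op V)) (map_sum ((kernel.ι (coeffHom f hf) ▷ psh F).app (op V)).hom _ _)).trans ?_
    exact (map_sum (π (op V)) _ _).trans (Finset.sum_congr rfl fun m _ => rfl)
  · have h0 : (coeffHom f hf).app (op V) ((kernel.ι (coeffHom f hf)).app (op V) (k m)) = 0 :=
      ConcreteCategory.congr_hom (congr_arg (fun a => PresheafOfModules.Hom.app a (op V))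
        (kernel.condition (coeffHom f hf))) (k m)
    refine Eq.trans ?_ h0
    symm
    show (∑ i, (LinearMap.mulRight (O.obj.obj (op V)) (f (op V) i)).comp (LinearMap.proj i)) (ι' (k m)) = _
    simp [LinearMap.sum_apply]

theorem relTriv_of_flat {F : ModSite.Mod O} (hF : ModSite.IsFlat F) : RelTriv F := by
  intro U n f s hs
  obtain ⟨S, hS, hS'⟩ := relTriv_global (O := O.over U) (F := (ModSite.restr O U).obj F) (isFlat_restr O U F hF)
    (fun W j => (O.obj.map W.unop.hom.op).hom (f j))
    (fun W W' g j => by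
      show (O.obj.map g.unop.left.op).hom ((O.obj.map W.unop.hom.op).hom (f j)) = _
      rw [← ConcreteCategory.comp_apply, ← Functor.map_comp, ← op_comp, Over.w])
    (Over.mk (𝟙 U)) (fun j => s j) (by
      refine Eq.trans (Finset.sum_congr rfl fun j _ => ?_) hs
      show (O.obj.map (𝟙 U).op).hom (f j) • s j = f j • s j
      simp)
  refine ⟨Sieve.overEquiv (Over.mk (𝟙 U)) S, (J.mem_over_iff S).1 hS, fun V g hg => ?_⟩
  obtain ⟨l, t, a, h1, h2⟩ := hS' _ ((Sieve.overEquiv_iff S g).1 hg)
  refine ⟨l, t, a, h1, fun k => ?_⟩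
  refine Eq.trans (Finset.sum_congr rfl fun j _ => ?_) (h2 k)
  refine congrArg _ ?_
  show (O.obj.map g.op).hom (f j) = (O.obj.map (g ≫ 𝟙 U).op).hom (f j)
  rw [Category.comp_id]

end Groth.Agent.ModSite9
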