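import Groth.Agent.ModSite9.FlatCriterion
import Mathlib.LinearAlgebra.TensorProduct.Finiteness
import Mathlib.RingTheory.TensorProduct.DirectLimitFG
import Mathlib.LinearAlgebra.TensorProduct.Vanishing

/-!
Locally trivial relations imply flatness; simultaneous trivialisation of finitely many relations.
-/

universe u

set_option autoImplicit false

open CategoryTheory CategoryTheory.Limits MonoidalCategory Opposite TensorProduct

namespace Groth.Agent.ModSite9

open ModTensor

variable {C : Type u} [SmallCategory C] {J : GrothendieckTopology C} {O : Sheaf J CommRingCat.{u}}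

theorem map_map_O {U V W : C} (g : V ⟶ U) (h : W ⟶ V) (x : O.obj.obj (op U)) :
    (O.obj.map h.op).hom ((O.obj.map g.op).hom x) = (O.obj.map (h ≫ g).op).hom x := by
  rw [← ConcreteCategory.comp_apply, ← Functor.map_comp, ← op_comp]

/-- finitely many relations are simultaneously locally trivial -/
theorem RelTriv.simultaneous {F : ModSite.Mod O} (hF : RelTriv F) :
    ∀ (U : C) (m n : ℕ) (A : Fin m → Fin n → O.obj.obj (op U)) (s : Fin n → ModSite.sect F U),
      (∀ i, ∑ j, A i j • s j = 0) →
      ∃ S ∈ J U, ∀ ⦃V : C⦄ (g : V ⟶ U), S g →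
        ∃ (l : ℕ) (t : Fin l → ModSite.sect F V) (B : Fin n → Fin l → O.obj.obj (op V)),
          (∀ j, (F.val.map g.op).hom (s j) = ∑ k, B j k • t k) ∧
          (∀ i k, ∑ j, B j k * (O.obj.map g.op).hom (A i j) = 0) := by
  classical
  intro U m
  induction m generalizing U with
  | zero =>
    intro n A s _
    refine ⟨⊤, J.top_mem U, fun V g _ => ⟨n, fun j => (F.val.map g.op).hom (s j), fun j k => if j = k then 1 else 0,
      fun j => ?_, fun i => i.elim0⟩⟩
    let sV : Fin n → ModSite.sect F V := fun j => (psh F).presheaf.map g.op (s j)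
    show sV j = ∑ k, (if j = k then (1 : O.obj.obj (op V)) else 0) • sV k
    rw [Finset.sum_eq_single j (fun k _ hk => by simp [Ne.symm hk]) (by simp), if_pos rfl]
    exact (one_smul (O.obj.obj (op V)) (sV j)).symm
  | succ m ih =>
    intro n A s hA
    obtain ⟨S, hS, hS'⟩ := hF U n (A 0) s (hA 0)
    choose l t a ht ha using hS'
    have key : ∀ ⦃V : C⦄ (g : V ⟶ U) (hg : S g), ∀ i : Fin m,
        ∑ k, (∑ j, a g hg j k * (O.obj.map g.op).hom (A i.succ j)) • t g hg k = 0 := by
      intro V g hg i
      have h := congrArg ((psh F).presheaf.map g.op) (hA i.succ)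
      replace h := ((map_sum ((psh F).presheaf.map g.op).hom _ _).symm.trans h).trans
        (map_zero ((psh F).presheaf.map g.op).hom)
      refine Eq.trans ?_ h
      let tV : Fin (l g hg) → (psh F).obj (op V) := t g hg
      show ∑ k, (∑ j, a g hg j k * (O.obj.map g.op).hom (A i.succ j)) • tV k = _
      simp only [Finset.sum_smul]
      rw [Finset.sum_comm]
      refine Finset.sum_congr rfl fun j _ => ?_
      refine Eq.trans ?_ (PresheafOfModules.map_smul (psh F) g.op (A i.succ j) (s j)).symm
      let sV : (psh F).obj (op V) := (psh F).presheaf.map g.op (s j)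
      show _ = (O.obj.map g.op).hom (A i.succ j) • sV
      have e : sV = ∑ k, a g hg j k • tV k := ht g hg j
      rw [e, Finset.smul_sum]
      exact Finset.sum_congr rfl fun k _ => by rw [smul_smul, mul_comm]
    have T := fun V (g : V ⟶ U) (hg : S g) => ih V (l g hg)
      (fun i k => ∑ j, a g hg j k * (O.obj.map g.op).hom (A i.succ j)) (t g hg) (key g hg)
    choose R hR hR' using T
    refine ⟨Sieve.bind S (fun {V} g hg => R V g hg), J.bind_covering hS (fun {V} g hg => hR V g hg), ?_⟩
    rintro W _ ⟨V, h, g, hg, hh, rfl⟩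
    obtain ⟨l', t', B', ht', hB'⟩ := hR' V g hg h hh
    refine ⟨l', t', fun j k' => ∑ k, (O.obj.map h.op).hom (a g hg j k) * B' k k', fun j => ?_, ?_⟩
    · have hc : (F.val.map (h ≫ g).op).hom (s j) = (F.val.map h.op).hom ((F.val.map g.op).hom (s j)) :=
        ConcreteCategory.congr_hom ((psh F).presheaf.map_comp g.op h.op) (s j)
      refine hc.trans ?_
      let tV : Fin (l g hg) → (psh F).obj (op V) := t g hg
      let tW : Fin l' → (psh F).obj (op W) := t'
      let sV : (psh F).obj (op V) := (psh F).presheaf.map g.op (s j)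
      have e : sV = ∑ k, a g hg j k • tV k := ht g hg j
      show (psh F).presheaf.map h.op sV = ∑ k', (∑ k, (O.obj.map h.op).hom (a g hg j k) * B' k k') • tW k'
      rw [e]
      refine (map_sum ((psh F).presheaf.map h.op).hom _ _).trans ?_
      simp only [Finset.sum_smul]
      rw [Finset.sum_comm]
      refine Finset.sum_congr rfl fun k _ => ?_
      refine (PresheafOfModules.map_smul (psh F) h.op (a g hg j k) (tV k)).trans ?_
      let tk : (psh F).obj (op W) := (psh F).presheaf.map h.op (tV k)
      have e' : tk = ∑ k', B' k k' • tW k' := ht' k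
      show (O.obj.map h.op).hom (a g hg j k) • tk = _
      rw [e', Finset.smul_sum]
      exact Finset.sum_congr rfl fun k' _ => smul_smul _ _ _
    · have main : ∀ i : Fin (m + 1), ∀ k', ∑ j, (∑ k, (O.obj.map h.op).hom (a g hg j k) * B' k k') *
          (O.obj.map (h ≫ g).op).hom (A i j) =
          ∑ k, B' k k' * (O.obj.map h.op).hom (∑ j, a g hg j k * (O.obj.map g.op).hom (A i j)) := by
        intro i k'
        simp only [map_sum, map_mul, map_map_O, Finset.mul_sum, Finset.sum_mul]
        rw [Finset.sum_comm]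
        exact Finset.sum_congr rfl fun k _ => Finset.sum_congr rfl fun j _ => by ring
      refine Fin.cases ?_ ?_
      · intro k'
        rw [main 0 k']
        simp [ha g hg]
      · intro i k'
        rw [main i.succ k']
        exact hB' i k'

theorem exists_fg_zero {R N M : Type*} [CommRing R] [AddCommGroup N] [Module R N] [AddCommGroup M] [Module R M]
    {p : ℕ} (ν : Fin p → N) (x : Fin p → M) (h : ∑ i, ν i ⊗ₜ[R] x i = (0 : N ⊗[R] M)) :
    ∃ (q : ℕ) (ν' : Fin q → N) (_ : True) (hmem : ∀ i, ν i ∈ Submodule.span R (Set.range ν')),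
      ∑ i, (⟨ν i, hmem i⟩ : Submodule.span R (Set.range ν')) ⊗ₜ[R] x i =
        (0 : Submodule.span R (Set.range ν') ⊗[R] M) := by
  let N₀ := Submodule.span R (Set.range ν)
  let w : N₀ ⊗[R] M := ∑ i, ⟨ν i, Submodule.subset_span ⟨i, rfl⟩⟩ ⊗ₜ[R] x i
  obtain ⟨N', hle, hfg, he⟩ := TensorProduct.eq_zero_of_fg_of_subtype_eq_zero (t := w) (Submodule.fg_span (Set.finite_range ν))
    (by simpa [w] using! h)
  obtain ⟨q, ν', rfl⟩ := Submodule.fg_iff_exists_fin_generating_family.1 hfg
  refine ⟨q, ν', trivial, fun i => hle (Submodule.subset_span ⟨i, rfl⟩), ?_⟩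
  simpa [w] using! he

/-- locally trivial relations give flatness -/
theorem flat_of_relTriv {F : ModSite.Mod O} (hF : RelTriv F) : ModSite.IsFlat F := by
  rw [ModTensor.isFlat_iff]
  refine ⟨fun {G' G} a _ => ?_⟩
  have inj : ∀ V : C, Function.Injective (((fgt O).map a).app (op V)) := fun V => by
    haveI : PreservesFiniteLimits (fgt O) :=
      (inferInstance : PreservesFiniteLimits (SheafOfModules.forget.{u} (ModSite.ringSh O)))
    haveI : Mono ((fgt O ⋙ PresheafOfModules.toPresheaf _).map a) := inferInstance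
    exact (AddCommGrpCat.mono_iff_injective (((fgt O ⋙ PresheafOfModules.toPresheaf _).map a).app (op V))).1 inferInstance
  refine (MorphismProperty.monomorphisms (ModSite.Mod O)).arrow_mk_iso_iff
    (((Functor.mapArrowFunctor _ _).mapIso (flipIso O F)).app (Arrow.mk a)) |>.2 ?_
  refine mono_sh_map ((fgt O).map a ▷ psh F) fun U w hw => ?_
  classical
  let R : Type u := O.obj.obj (op U)
  let M' : Type u := (psh G').obj (op U)
  let M : Type u := (psh G).obj (op U)
  let N : Type u := (psh F).obj (op U)
  let α : M' →ₗ[R] M := (((fgt O).map a).app (op U)).hom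
  obtain ⟨p, m, ν, hwsum⟩ := TensorProduct.exists_sum_tmul_eq (R := R) (M := M') (N := N) w
  have h0 : ∑ i, ν i ⊗ₜ[R] α (m i) = (0 : N ⊗[R] M) := by
    have : LinearMap.rTensor N α w = 0 := hw
    rw [hwsum, map_sum] at this
    have h' := congrArg (TensorProduct.comm R M N) this
    simpa only [LinearMap.rTensor_tmul, map_sum, TensorProduct.comm_tmul, map_zero] using! h'
  obtain ⟨q, ν', hspan, hν', h1⟩ : ∃ (q : ℕ) (ν' : Fin q → N) (_ : True) (hmem : ∀ i, ν i ∈ Submodule.span R (Set.range ν')),
      ∑ i, (⟨ν i, hmem i⟩ : Submodule.span R (Set.range ν')) ⊗ₜ[R] α (m i) =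
        (0 : Submodule.span R (Set.range ν') ⊗[R] M) := exists_fg_zero ν (fun i => α (m i)) h0
  choose c hc using fun i => (Submodule.mem_span_range_iff_exists_fun R).1 (hν' i)
  let e : Fin q → Submodule.span R (Set.range ν') := fun j => ⟨ν' j, Submodule.subset_span ⟨j, rfl⟩⟩
  have hespan : Submodule.span R (Set.range e) = ⊤ := by
    apply Submodule.map_injective_of_injective (Submodule.injective_subtype (Submodule.span R (Set.range ν')))
    rw [Submodule.map_span, Submodule.map_top, Submodule.range_subtype, Submodule.coe_subtype, ← Set.range_comp]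
    rfl
  let μ : Fin q → M' := fun j => ∑ i, c i j • m i
  have hsum : ∑ j, e j ⊗ₜ[R] α (μ j) = (0 : Submodule.span R (Set.range ν') ⊗[R] M) := by
    refine Eq.trans ?_ h1
    simp only [μ, map_sum, map_smul, TensorProduct.tmul_sum, TensorProduct.tmul_smul, TensorProduct.smul_tmul']
    rw [Finset.sum_comm]
    refine Finset.sum_congr rfl fun i _ => ?_
    rw [← TensorProduct.sum_tmul]
    refine congrArg (fun z => z ⊗ₜ[R] α (m i)) (Subtype.ext ?_)
    simp [e, hc i]
  obtain ⟨κ, A, y, hy1, hy2⟩ := TensorProduct.vanishesTrivially_of_sum_tmul_eq_zero R hespan hsum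
  obtain ⟨S, hS, hS'⟩ := hF.simultaneous U κ q (fun i j => A j i) ν' (fun i => by
    have := congrArg Subtype.val (hy2 i)
    simpa [e] using! this)
  refine ⟨S, hS, fun V g hg => ?_⟩
  obtain ⟨l, t, B, ht, hB⟩ := hS' g hg
  let RV : Type u := O.obj.obj (op V)
  let tV : Fin l → (psh F).obj (op V) := t
  let νV : Fin q → (psh F).obj (op V) := fun j => (psh F).presheaf.map g.op (ν' j)
  have htV : ∀ j, νV j = ∑ k, B j k • tV k := ht
  have hw' : w = ∑ j, μ j ⊗ₜ[R] (ν' j : N) := by
    rw [hwsum]
    simp only [μ, TensorProduct.sum_tmul, TensorProduct.smul_tmul]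
    rw [Finset.sum_comm]
    exact Finset.sum_congr rfl fun i _ => by rw [← TensorProduct.tmul_sum, hc i]
  let μV : Fin q → (psh G').obj (op V) := fun j => (psh G').presheaf.map g.op (μ j)
  let z : Fin l → (psh G').obj (op V) := fun k => ∑ j, B j k • μV j
  have hz : ∀ k, z k = 0 := fun k => by
    refine inj V ((?_ : ((fgt O).map a).app (op V) (z k) = 0).trans
      (map_zero (((fgt O).map a).app (op V)).hom).symm)
    let αV : (psh G').obj (op V) →ₗ[O.obj.obj (op V)] (psh G).obj (op V) := (((fgt O).map a).app (op V)).hom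
    let yV : Fin κ → (psh G).obj (op V) := fun r => (psh G).presheaf.map g.op (y r)
    have hμ : ∀ j, αV (μV j) = ∑ r, (O.obj.map g.op).hom (A j r) • yV r := fun j => by
      refine (NatTrans.naturality_apply ((PresheafOfModules.toPresheaf _).map ((fgt O).map a)) g.op (μ j)).trans ?_
      refine (congrArg ((psh G).presheaf.map g.op) (hy1 j)).trans ?_
      refine (map_sum ((psh G).presheaf.map g.op).hom _ _).trans ?_
      exact Finset.sum_congr rfl fun r _ => PresheafOfModules.map_smul (psh G) g.op (A j r) (y r)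
    show αV (∑ j, B j k • μV j) = 0
    simp only [map_sum, map_smul, hμ, Finset.smul_sum, smul_smul]
    rw [Finset.sum_comm]
    refine Finset.sum_eq_zero fun r _ => ?_
    rw [← Finset.sum_smul]
    rw [hB r k, zero_smul]
  rw [hw']
  refine (map_sum ((psh G' ⊗ psh F).presheaf.map g.op).hom _ _).trans ?_
  show ∑ j, μV j ⊗ₜ[O.obj.obj (op V)] νV j = 0
  simp only [htV, TensorProduct.tmul_sum, TensorProduct.tmul_smul, TensorProduct.smul_tmul']
  rw [Finset.sum_comm]
  refine Finset.sum_eq_zero fun k _ => ?_
  rw [← TensorProduct.sum_tmul]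
  show z k ⊗ₜ[O.obj.obj (op V)] tV k = 0
  rw [hz k, TensorProduct.zero_tmul]

theorem isFlat_iff_relTriv (F : ModSite.Mod O) : ModSite.IsFlat F ↔ RelTriv F :=
  ⟨relTriv_of_flat, flat_of_relTriv⟩

end Groth.Agent.ModSite9
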