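import Groth.Agent.ModTensor.Flat

/-!
Flatness of cycles of acyclic complexes of flat modules.
-/

universe v u

set_option autoImplicit false

open CategoryTheory CategoryTheory.Limits

namespace Groth.Agent.ModSite9

variable {A : Type u} [Category.{v} A] [Abelian A] (T : A ⥤ A ⥤ A) [∀ X, (T.obj X).PreservesEpimorphisms]
  [∀ X, PreservesFiniteColimits (T.obj X)] [∀ X, (T.obj X).Additive]
  [∀ X, PreservesFiniteColimits (T.flip.obj X)] [∀ X, (T.flip.obj X).Additive]

/-- if `G ⊗ -` keeps `S.f` mono for all `G` and the middle term is flat, so is the right one -/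
theorem flat_X₃ (S : ShortComplex A) (hS : S.ShortExact)
    (h : ∀ G, Mono ((T.obj G).map S.f)) [hP : (T.flip.obj S.X₂).PreservesMonomorphisms] :
    (T.flip.obj S.X₃).PreservesMonomorphisms := by
  haveI := hS.epi_g
  refine ⟨fun {X Y} a _ => Preadditive.mono_of_cancel_zero _ fun {B} x hx => ?_⟩
  change x ≫ (T.map a).app S.X₃ = 0 at hx
  obtain ⟨B₁, q₁, hq₁, y, hy⟩ := surjective_up_to_refinements_of_epi ((T.obj X).map S.g) x
  have n : ∀ {X Y : A} (a : X ⟶ Y) {Z W : A} (b : Z ⟶ W),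
      (T.obj X).map b ≫ (T.map a).app W = (T.map a).app Z ≫ (T.obj Y).map b := fun a _ _ b => (T.map a).naturality b
  have hy0 : (y ≫ (T.map a).app S.X₂) ≫ (T.obj Y).map S.g = 0 := by
    rw [Category.assoc, ← n, ← reassoc_of% hy, hx, comp_zero]
  obtain ⟨B₂, q₂, hq₂, (z : B₂ ⟶ (T.obj Y).obj S.X₁), hz⟩ := (ShortComplex.exact_iff_exact_up_to_refinements _).1
    (ModTensor.exact_map_of_epi (F := T.obj Y) S hS.exact) _ hy0
  change q₂ ≫ y ≫ (T.map a).app S.X₂ = z ≫ (T.obj Y).map S.f at hz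
  let K := ShortComplex.mk a (cokernel.π a) (cokernel.condition a)
  have hK : K.Exact := ShortComplex.exact_of_g_is_cokernel _ (cokernelIsCokernel a)
  have hz0 : z ≫ (T.map (cokernel.π a)).app S.X₁ = 0 := by
    haveI := h (cokernel a)
    rw [← cancel_mono ((T.obj (cokernel a)).map S.f), zero_comp, Category.assoc, ← n, ← reassoc_of% hz]
    have h0 : (T.map a).app S.X₂ ≫ (T.map (cokernel.π a)).app S.X₂ = 0 :=
      ((T.flip.obj S.X₂).map_comp a (cokernel.π a)).symm.trans
        ((congrArg (T.flip.obj S.X₂).map (cokernel.condition a)).trans ((T.flip.obj S.X₂).map_zero _ _))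
    simp only [h0, comp_zero]
  obtain ⟨B₃, q₃, hq₃, (w : B₃ ⟶ (T.obj X).obj S.X₁), hw⟩ := (ShortComplex.exact_iff_exact_up_to_refinements _).1
    (ModTensor.exact_map_of_epi (F := T.flip.obj S.X₁) K hK) z hz0
  change q₃ ≫ z = w ≫ (T.map a).app S.X₁ at hw
  haveI : Mono ((T.map a).app S.X₂) := (inferInstance : Mono ((T.flip.obj S.X₂).map a))
  have h1 : q₃ ≫ q₂ ≫ y = w ≫ (T.obj X).map S.f := by
    rw [← cancel_mono ((T.map a).app S.X₂), Category.assoc, Category.assoc, Category.assoc, hz, n, reassoc_of% hw]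
  have h2 : (q₃ ≫ q₂ ≫ q₁) ≫ x = 0 := by
    rw [Category.assoc, Category.assoc, hy, ← Category.assoc q₂, ← Category.assoc q₃, h1, Category.assoc,
      ← Functor.map_comp, S.zero, Functor.map_zero, comp_zero]
  rwa [← cancel_epi (q₃ ≫ q₂ ≫ q₁), comp_zero]

/-- if `K` is acyclic and stays so under all `G ⊗ -`, the inclusion of cycles stays mono -/
theorem mono_map_cycles (K : CochainComplex A ℤ) (hac : ∀ i, K.ExactAt i)
    (hT : ∀ G i, (((T.obj G).mapHomologicalComplex (ComplexShape.up ℤ)).obj K).ExactAt i) (n : ℤ) (G : A) :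
    Mono ((T.obj G).map (K.iCycles n)) := by
  haveI : Epi (K.toCycles (n - 1) n) :=
    Preadditive.epi_of_isZero_cokernel' _ (K.homologyIsCokernel (n - 1) n (by simp))
      ((K.exactAt_iff_isZero_homology n).1 (hac n))
  refine Preadditive.mono_of_cancel_zero _ fun {B} x hx => ?_
  obtain ⟨B₁, q₁, hq₁, y, hy⟩ := surjective_up_to_refinements_of_epi ((T.obj G).map (K.toCycles (n - 1) n)) x
  have hy0 : y ≫ (T.obj G).map (K.d (n - 1) n) = 0 := by
    rw [← K.toCycles_i (n - 1) n, Functor.map_comp, ← reassoc_of% hy, hx, comp_zero]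
  obtain ⟨B₂, q₂, hq₂, (w : B₂ ⟶ (T.obj G).obj (K.X (n - 2))), hw⟩ :=
    (ShortComplex.exact_iff_exact_up_to_refinements _).1
      ((HomologicalComplex.exactAt_iff' _ (n - 2) (n - 1) n (by simp; omega) (by simp)).1 (hT G (n - 1))) y hy0
  change q₂ ≫ y = w ≫ (T.obj G).map (K.d (n - 2) (n - 1)) at hw
  have : (q₂ ≫ q₁) ≫ x = 0 := by
    rw [Category.assoc, hy, reassoc_of% hw, ← Functor.map_comp,
      (by rw [← cancel_mono (K.iCycles n), Category.assoc, K.toCycles_i, K.d_comp_d, zero_comp] :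
        K.d (n - 2) (n - 1) ≫ K.toCycles (n - 1) n = 0), Functor.map_zero, comp_zero]
  rwa [← cancel_epi (q₂ ≫ q₁), comp_zero]

theorem flat_cycles (K : CochainComplex A ℤ) (hac : ∀ i, K.ExactAt i)
    (hT : ∀ G i, (((T.obj G).mapHomologicalComplex (ComplexShape.up ℤ)).obj K).ExactAt i)
    (hK : ∀ i, (T.flip.obj (K.X i)).PreservesMonomorphisms) (n : ℤ) :
    (T.flip.obj (K.cycles n)).PreservesMonomorphisms := by
  haveI : Epi (K.toCycles (n - 1) n) :=
    Preadditive.epi_of_isZero_cokernel' _ (K.homologyIsCokernel (n - 1) n (by simp))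
      ((K.exactAt_iff_isZero_homology n).1 (hac n))
  let S := ShortComplex.mk (K.iCycles (n - 1)) (K.toCycles (n - 1) n) (by
    rw [← cancel_mono (K.iCycles n), Category.assoc, K.toCycles_i, K.iCycles_d, zero_comp])
  have hS : S.ShortExact :=
    { exact := ShortComplex.exact_of_f_is_kernel _ (KernelFork.IsLimit.ofι' _ _ fun {W} k hk =>
        ⟨K.liftCycles k n (by simp) (by
          have h0 : k ≫ K.toCycles (n - 1) n = 0 := hk
          rw [← K.toCycles_i (n - 1) n, reassoc_of% h0, zero_comp]), by simp [S]⟩) }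
  haveI : (T.flip.obj S.X₂).PreservesMonomorphisms := hK (n - 1)
  exact flat_X₃ T S hS (fun G => mono_map_cycles T K hac hT (n - 1) G)

end Groth.Agent.ModSite9
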