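import Groth.Agent.ModSite9.FlatCriterion2
import Groth.Prelude.Def_ModSite2
import Mathlib.CategoryTheory.Sites.Point.Conservative

/-!
Flatness of modules on a ringed site and flatness of stalks.
-/

universe u

set_option autoImplicit false

open CategoryTheory CategoryTheory.Limits MonoidalCategory Opposite

namespace Groth.Agent.ModSite9

variable {C : Type u} [SmallCategory C] {J : GrothendieckTopology C} {O : Sheaf J CommRingCat.{u}}
  (p : GrothendieckTopology.Point.{u} J) (F : ModSite.Mod O)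

theorem wide_cospan {E : Type*} [Category E] [IsCofiltered E] {ι : Type*} [Finite ι] {A : E} {B : ι → E}
    (m : ∀ i, B i ⟶ A) : ∃ (W : E) (c : W ⟶ A) (d : ∀ i, W ⟶ B i), ∀ i, d i ≫ m i = c := by
  induction ι using Finite.induction_empty_option with
  | of_equiv e ih =>
    obtain ⟨W, c, d, hd⟩ := ih (B := fun i => B (e i)) (fun i => m (e i))
    refine ⟨W, c, fun i => d (e.symm i) ≫ eqToHom (by rw [Equiv.apply_symm_apply]), fun i => ?_⟩
    obtain ⟨i, rfl⟩ := e.surjective i
    have key : ∀ (j : _) (h : j = i) (h' : B (e j) = B (e i)), d j ≫ eqToHom h' ≫ m (e i) = c := by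
      rintro _ rfl h'
      simpa using hd _
    rw [Category.assoc]
    exact key _ (e.symm_apply_apply i) _
  | h_empty => exact ⟨A, 𝟙 A, fun i => i.elim, fun i => i.elim⟩
  | h_option ih =>
    obtain ⟨W, c, d, hd⟩ := ih (B := fun i => B (some i)) (fun i => m (some i))
    obtain ⟨W', a, b, h⟩ := IsCofiltered.cospan c (m none)
    refine ⟨W', a ≫ c, fun o => match o with | none => b | some i => a ≫ d i, fun o => ?_⟩
    match o with
    | none => exact h.symm
    | some i => simp [hd i]

theorem germ_res {X Y : C} (g : Y ⟶ X) (y : p.fiber.obj Y) (s : ModSite.sect F X) :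
    ModSite.germ p F X (p.fiber.map g y) s = ModSite.germ p F Y y ((F.val.map g.op).hom s) :=
  (p.toPresheafFiber_w_apply g y (ModSite.toAb F).obj s).symm

theorem germRing_res {X Y : C} (g : Y ⟶ X) (y : p.fiber.obj Y) (r : O.obj.obj (op X)) :
    ModSite.germRing p X (p.fiber.map g y) r = ModSite.germRing p Y y ((O.obj.map g.op).hom r) :=
  (p.toPresheafFiber_w_apply g y O.obj r).symm

theorem germ_relation {X : C} (x : p.fiber.obj X) {n : ℕ} (r : Fin n → O.obj.obj (op X))
    (s : Fin n → ModSite.sect F X) :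
    ModSite.germ p F X x (∑ i, r i • s i) =
      ∑ i, ModSite.germRing p X x (r i) • (ModSite.germ p F X x (s i) : ModSite.stalkMod p F) :=
  (map_sum (p.toPresheafFiber X x (ModSite.toAb F).obj).hom _ _).trans
    (Finset.sum_congr rfl fun i _ => ModSite.germ_smul p F X x (r i) (s i))

theorem exists_common {n : ℕ} (r : Fin n → ModSite.stalkRing p O) (m : Fin n → ModSite.stalkMod p F) :
    ∃ (X : C) (x : p.fiber.obj X) (r' : Fin n → O.obj.obj (op X)) (s : Fin n → ModSite.sect F X),
      (∀ i, ModSite.germRing p X x (r' i) = r i) ∧ ∀ i, ModSite.germ p F X x (s i) = m i := by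
  induction n with
  | zero =>
    haveI := p.isCofiltered
    obtain ⟨e⟩ : Nonempty p.fiber.Elements := IsCofiltered.nonempty
    exact ⟨e.1, e.2, Fin.elim0, Fin.elim0, fun i => i.elim0, fun i => i.elim0⟩
  | succ n ih =>
    obtain ⟨X, x, r', s, hr, hs⟩ := ih (fun i => r i.succ) (fun i => m i.succ)
    obtain ⟨Y, y, r₀, hr₀⟩ := p.toPresheafFiber_jointly_surjective (P := O.obj) (r 0)
    obtain ⟨Z, z, s₀, hs₀⟩ := p.toPresheafFiber_jointly_surjective (P := (ModSite.toAb F).obj) (m 0)
    haveI := p.isCofiltered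
    let W' := IsCofiltered.min (p.fiber.elementsMk X x) (p.fiber.elementsMk Y y)
    let W'' := IsCofiltered.min W' (p.fiber.elementsMk Z z)
    obtain ⟨⟨W, w⟩, gX', gY', gZ'⟩ : ∃ (T : p.fiber.Elements) (_ : T ⟶ p.fiber.elementsMk X x)
        (_ : T ⟶ p.fiber.elementsMk Y y), Nonempty (T ⟶ p.fiber.elementsMk Z z) :=
      ⟨W'', IsCofiltered.minToLeft _ _ ≫ IsCofiltered.minToLeft _ _,
        IsCofiltered.minToLeft _ _ ≫ IsCofiltered.minToRight _ _, ⟨IsCofiltered.minToRight _ _⟩⟩
    obtain ⟨gX, hgX⟩ : ∃ g : W ⟶ X, p.fiber.map g w = x := ⟨gX'.1, gX'.2⟩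
    obtain ⟨gY, hgY⟩ : ∃ g : W ⟶ Y, p.fiber.map g w = y := ⟨gY'.1, gY'.2⟩
    obtain ⟨gZ, hgZ⟩ : ∃ g : W ⟶ Z, p.fiber.map g w = z := ⟨gZ'.some.1, gZ'.some.2⟩
    subst hgX hgY hgZ
    refine ⟨W, w, Fin.cases ((O.obj.map gY.op).hom r₀) (fun i => (O.obj.map gX.op).hom (r' i)),
      Fin.cases ((F.val.map gZ.op).hom s₀) (fun i => (F.val.map gX.op).hom (s i)), ?_, ?_⟩
    · exact Fin.cases ((germRing_res p gY w r₀).symm.trans hr₀) (fun i => (germRing_res p gX w (r' i)).symm.trans (hr i))
    · exact Fin.cases ((germ_res p F gZ w s₀).symm.trans hs₀) (fun i => (germ_res p F gX w (s i)).symm.trans (hs i))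

theorem trivial_of_local {X : C} (x : p.fiber.obj X) {n : ℕ} (f : Fin n → O.obj.obj (op X))
    (s : Fin n → ModSite.sect F X) {l : ℕ} (t : Fin l → ModSite.sect F X) (a : Fin n → Fin l → O.obj.obj (op X))
    (h1 : ∀ j, s j = ∑ k, a j k • t k) (h2 : ∀ k, ∑ j, a j k * f j = 0) :
    Module.IsTrivialRelation (R := ModSite.stalkRing p O) (M := ModSite.stalkMod p F)
      (fun j => ModSite.germRing p X x (f j)) (fun j => ModSite.germ p F X x (s j)) := by
  refine ⟨l, fun j k => ModSite.germRing p X x (a j k), fun k => ModSite.germ p F X x (t k), fun j => ?_, fun k => ?_⟩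
  · show ModSite.germ p F X x (s j) = _
    rw [h1 j]
    exact germ_relation p F x (a j) t
  · have := congrArg (p.toPresheafFiber X x O.obj).hom (h2 k)
    simp only [map_sum, map_mul, map_zero] at this
    exact (Finset.sum_congr rfl fun j _ => mul_comm _ _).trans this

variable {F}

theorem flat_stalk (hF : ModSite.IsFlat F) : Module.Flat (ModSite.stalkRing p O) (ModSite.stalkMod p F) := by
  rw [Module.Flat.iff_forall_isTrivialRelation]
  intro n r m hrm
  obtain ⟨X, x, r', s, hr, hs⟩ := exists_common p F r m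
  obtain rfl : r = fun i => ModSite.germRing p X x (r' i) := funext fun i => (hr i).symm
  obtain rfl : m = fun i => ModSite.germ p F X x (s i) := funext fun i => (hs i).symm
  have h0 : ModSite.germ p F X x (∑ i, r' i • s i) = ModSite.germ p F X x 0 :=
    ((germ_relation p F x r' s).trans hrm).trans (map_zero (p.toPresheafFiber X x (ModSite.toAb F).obj).hom).symm
  obtain ⟨Y, g, y, rfl, hy⟩ := (p.toPresheafFiber_eq_iff' (P := (ModSite.toAb F).obj) X x _ _).1 h0
  let sY : Fin n → ModSite.sect F Y := fun i => (F.val.map g.op).hom (s i)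
  let rY : Fin n → O.obj.obj (op Y) := fun i => (O.obj.map g.op).hom (r' i)
  have hrel : ∑ i, rY i • sY i = 0 := by
    refine Eq.trans ?_ (hy.trans (map_zero ((ModSite.toAb F).obj.map g.op).hom))
    refine Eq.trans (Finset.sum_congr rfl fun i _ => ?_) (map_sum ((ModSite.toAb F).obj.map g.op).hom _ _).symm
    exact (PresheafOfModules.map_smul F.val g.op (r' i) (s i)).symm
  obtain ⟨S, hS, hS'⟩ := relTriv_of_flat hF Y n rY sY hrel
  obtain ⟨V, h, hh, v, rfl⟩ := p.jointly_surjective S hS y
  obtain ⟨l, t, a, h1, h2⟩ := hS' h hh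
  have := trivial_of_local p F v (fun j => (O.obj.map h.op).hom (rY j)) (fun j => (F.val.map h.op).hom (sY j)) t a h1 h2
  simpa only [rY, sY, ← germRing_res, ← germ_res] using! this

theorem exists_matrix {U : C} (x : p.fiber.obj U) {n k : ℕ} (a : Fin n → Fin k → ModSite.stalkRing p O)
    (y : Fin k → ModSite.stalkMod p F) :
    ∃ (V : C) (g : V ⟶ U) (v : p.fiber.obj V)
        (a' : Fin n → Fin k → O.obj.obj (op V)) (t : Fin k → ModSite.sect F V), p.fiber.map g v = x ∧
          (∀ i j, ModSite.germRing p V v (a' i j) = a i j) ∧ ∀ j, ModSite.germ p F V v (t j) = y j := by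
  obtain ⟨X, z, r', s', hr, hs⟩ := exists_common p F
    (fun m : Fin (n * k + k) => Fin.addCases (fun q => Function.uncurry a (finProdFinEquiv.symm q)) (fun _ => 0) m)
    (fun m => Fin.addCases (fun _ => 0) y m)
  haveI := p.isCofiltered
  obtain ⟨⟨W, w⟩, gU', gX'⟩ : ∃ (T : p.fiber.Elements) (_ : T ⟶ p.fiber.elementsMk U x),
      Nonempty (T ⟶ p.fiber.elementsMk X z) :=
    ⟨IsCofiltered.min (p.fiber.elementsMk U x) (p.fiber.elementsMk X z), IsCofiltered.minToLeft _ _,
      ⟨IsCofiltered.minToRight _ _⟩⟩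
  obtain ⟨gU, hgU⟩ : ∃ g : W ⟶ U, p.fiber.map g w = x := ⟨gU'.1, gU'.2⟩
  obtain ⟨gX, hgX⟩ : ∃ g : W ⟶ X, p.fiber.map g w = z := ⟨gX'.some.1, gX'.some.2⟩
  subst hgX
  refine ⟨W, gU, w, fun i j => (O.obj.map gX.op).hom (r' (Fin.castAdd k (finProdFinEquiv (i, j)))),
    fun j => (F.val.map gX.op).hom (s' (Fin.natAdd (n * k) j)), hgU, fun i j => ?_, fun j => ?_⟩
  · rw [← germRing_res, hr]
    simp only [Fin.addCases_left, Equiv.symm_apply_apply]
    rfl
  · rw [← germ_res, hs]
    simp

theorem exists_simultaneous {V : C} (v : p.fiber.obj V) {n k : ℕ} {e e' : Fin n → ModSite.sect F V}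
    {r : Fin k → O.obj.obj (op V)}
    (hE : ∀ i, ModSite.germ p F V v (e i) = ModSite.germ p F V v (e' i))
    (hR : ∀ j, ModSite.germRing p V v (r j) = ModSite.germRing p V v 0) :
    ∃ (W : C) (q : W ⟶ V) (w : p.fiber.obj W), p.fiber.map q w = v ∧
      (∀ i, (F.val.map q.op).hom (e i) = (F.val.map q.op).hom (e' i)) ∧
      ∀ j, (O.obj.map q.op).hom (r j) = (O.obj.map q.op).hom 0 := by
  haveI := p.isCofiltered
  choose Y gY yY hyY hgY using fun i => (p.toPresheafFiber_eq_iff' (P := (ModSite.toAb F).obj) V v _ _).1 (hE i)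
  choose Z gZ zZ hzZ hgZ using fun j => (p.toPresheafFiber_eq_iff' (P := O.obj) V v _ _).1 (hR j)
  let obs : Option (Fin n ⊕ Fin k) → p.fiber.Elements := fun o =>
    o.elim (p.fiber.elementsMk V v) (Sum.elim (fun i => p.fiber.elementsMk (Y i) (yY i))
      (fun j => p.fiber.elementsMk (Z j) (zZ j)))
  let mor : ∀ o, obs o ⟶ p.fiber.elementsMk V v := fun o => match o with
    | none => 𝟙 _
    | some (Sum.inl i) => CategoryOfElements.homMk (p.fiber.elementsMk (Y i) (yY i)) (p.fiber.elementsMk V v) (gY i) (hyY i)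
    | some (Sum.inr j) => CategoryOfElements.homMk (p.fiber.elementsMk (Z j) (zZ j)) (p.fiber.elementsMk V v) (gZ j) (hzZ j)
  obtain ⟨W, c, d, hd⟩ : ∃ (W : p.fiber.Elements) (c : W ⟶ p.fiber.elementsMk V v) (d : ∀ o, W ⟶ obs o),
      ∀ o, d o ≫ mor o = c := wide_cospan mor
  refine ⟨W.1, c.1, W.2, c.2, fun i => ?_, fun j => ?_⟩
  · have hc : c.1 = (d (some (Sum.inl i))).1 ≫ gY i := (congrArg Subtype.val (hd (some (Sum.inl i)))).symm
    rw [hc]
    let ps := (ModTensor.psh F).presheaf
    exact (ConcreteCategory.congr_hom (ps.map_comp (gY i).op (d (some (Sum.inl i))).1.op) (e i)).trans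
      ((congrArg (ps.map (d (some (Sum.inl i))).1.op) (hgY i)).trans
        (ConcreteCategory.congr_hom (ps.map_comp (gY i).op (d (some (Sum.inl i))).1.op) (e' i)).symm)
  · have hc : c.1 = (d (some (Sum.inr j))).1 ≫ gZ j := (congrArg Subtype.val (hd (some (Sum.inr j)))).symm
    rw [hc, ← map_map_O, ← map_map_O]
    exact congrArg _ (hgZ j)

/-- flat stalks at a conservative family of points give flatness -/
theorem isFlat_of_stalks (P : ObjectProperty (GrothendieckTopology.Point.{u} J))
    (hP : P.IsConservativeFamilyOfPoints)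
    (h : ∀ p : GrothendieckTopology.Point.{u} J, P p → Module.Flat (ModSite.stalkRing p O) (ModSite.stalkMod p F)) :
    ModSite.IsFlat F := by
  refine flat_of_relTriv fun U n f s hs => ?_
  let Good : ∀ ⦃V : C⦄, (V ⟶ U) → Prop := fun V g =>
      ∃ (l : ℕ) (t : Fin l → ModSite.sect F V) (a : Fin n → Fin l → O.obj.obj (op V)),
        (∀ j, (F.val.map g.op).hom (s j) = ∑ k, a j k • t k) ∧
        (∀ k, ∑ j, a j k * (O.obj.map g.op).hom (f j) = 0)
  let ι : Type u := Σ V : C, {g : V ⟶ U // Good g}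
  refine ⟨Sieve.ofArrows (fun i : ι => i.1) (fun i => i.2.1), ?_, ?_⟩
  · rw [hP.jointly_reflect_ofArrows_mem]
    rintro ⟨p, hp⟩ x
    haveI := h p hp
    have hrel : ∑ i, ModSite.germRing p U x (f i) • (ModSite.germ p F U x (s i) : ModSite.stalkMod p F) = 0 :=
      (germ_relation p F x f s).symm.trans
        ((congrArg (ModSite.germ p F U x) hs).trans (map_zero (p.toPresheafFiber U x (ModSite.toAb F).obj).hom))
    obtain ⟨k, a, y, h1, h2⟩ := Module.Flat.isTrivialRelation_of_sum_smul_eq_zero hrel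
    obtain ⟨V, g, v, a', t, hx, ha, ht⟩ : ∃ (V : C) (g : V ⟶ U) (v : p.fiber.obj V)
        (a' : Fin n → Fin k → O.obj.obj (op V)) (t : Fin k → ModSite.sect F V), p.fiber.map g v = x ∧
          (∀ i j, ModSite.germRing p V v (a' i j) = a i j) ∧ ∀ j, ModSite.germ p F V v (t j) = y j :=
      exists_matrix p x a y
    subst hx
    let eqs : Prop := ∃ (W : C) (q : W ⟶ V) (w : p.fiber.obj W), p.fiber.map q w = v ∧ Good (q ≫ g)
    suffices eqs by
      obtain ⟨W, q, w, hw, hgood⟩ := this
      exact ⟨⟨W, q ≫ g, hgood⟩, w, by simp [← hw]⟩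
    have hE : ∀ i, ModSite.germ p F V v ((F.val.map g.op).hom (s i)) = ModSite.germ p F V v (∑ j, a' i j • t j) := by
      intro i
      rw [← germ_res, germ_relation]
      simp only [ha, ht]
      exact h1 i
    have hR : ∀ j, ModSite.germRing p V v (∑ i, a' i j * (O.obj.map g.op).hom (f i)) = ModSite.germRing p V v 0 := by
      intro j
      refine ((map_sum (p.toPresheafFiber V v O.obj).hom _ _).trans ?_).trans (map_zero (p.toPresheafFiber V v O.obj).hom).symm
      refine Eq.trans (Finset.sum_congr rfl fun i _ => ?_) (h2 j)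
      refine (map_mul (p.toPresheafFiber V v O.obj).hom _ _).trans ?_
      rw [mul_comm]
      exact congrArg₂ (· * ·) (germRing_res p g v (f i)).symm (ha i j)
    obtain ⟨W, q, w, hw, hE', hR'⟩ := exists_simultaneous p v hE hR
    refine ⟨W, q, w, hw, k, fun j => (F.val.map q.op).hom (t j), fun i j => (O.obj.map q.op).hom (a' i j), fun i => ?_,
      fun j => ?_⟩
    · refine (ConcreteCategory.congr_hom ((ModTensor.psh F).presheaf.map_comp g.op q.op) (s i)).trans ((hE' i).trans ?_)
      refine (map_sum ((ModTensor.psh F).presheaf.map q.op).hom _ _).trans ?_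
      exact Finset.sum_congr rfl fun j _ => PresheafOfModules.map_smul (ModTensor.psh F) q.op (a' i j) (t j)
    · refine Eq.trans (Finset.sum_congr rfl fun i _ => ?_) ((hR' j).trans (map_zero (O.obj.map q.op).hom) |> fun e =>
        (map_sum (O.obj.map q.op).hom _ _).symm.trans e)
      rw [map_mul, map_map_O]
  · rintro V _ ⟨W, q, _, ⟨⟨W', g, l, t, a, h1, h2⟩⟩, rfl⟩
    refine ⟨l, fun k => (F.val.map q.op).hom (t k), fun j k => (O.obj.map q.op).hom (a j k), fun j => ?_, fun k => ?_⟩
    · refine (ConcreteCategory.congr_hom ((ModTensor.psh F).presheaf.map_comp g.op q.op) (s j)).trans ?_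
      refine (congrArg ((ModTensor.psh F).presheaf.map q.op) (h1 j)).trans ?_
      refine (map_sum ((ModTensor.psh F).presheaf.map q.op).hom _ _).trans ?_
      exact Finset.sum_congr rfl fun k _ => PresheafOfModules.map_smul (ModTensor.psh F) q.op (a j k) (t k)
    · have := congrArg (O.obj.map q.op).hom (h2 k)
      simpa only [map_sum, map_mul, map_zero, map_map_O] using! this

end Groth.Agent.ModSite9
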