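import Mathlib
import Groth.Prelude.Def_ModSite
import Groth.Agent.SubTopos.SiteLemmas

/-!
Maps out of the free module on an object are sections over it.
-/

universe u

set_option autoImplicit false
set_option maxHeartbeats 400000

open CategoryTheory CategoryTheory.Limits Opposite

namespace Groth.Agent.ModSite9

variable {C : Type u} [SmallCategory C] {J : GrothendieckTopology C} (O : Sheaf J CommRingCat.{u})

/-- the terminal object of the slice -/
abbrev topOver (X : C) : (Over X)ᵒᵖ := op (Over.mk (𝟙 X))

theorem sections_bijective (X : C) (N : ModSite.Mod (O.over X)) :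
    Function.Bijective fun s : N.sections => s.val (topOver X) := by
  constructor
  · intro s t h
    apply Subtype.ext
    funext W
    have g : Over.mk (W.unop.hom) ⟶ Over.mk (𝟙 X) := Over.homMk W.unop.hom (Category.comp_id _)
    rw [← s.2 (show topOver X ⟶ W from g.op), ← t.2 (show topOver X ⟶ W from g.op)]
    exact congrArg _ h
  · intro x
    refine ⟨⟨fun W => N.val.presheaf.map
      (Over.homMk W.unop.hom (Category.comp_id _) : W.unop ⟶ Over.mk (𝟙 X)).op x, ?_⟩, ?_⟩
    · intro W W' f
      show N.val.presheaf.map f (N.val.presheaf.map _ x) = _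
      rw [← Functor.map_comp_apply]
      refine congrArg (fun k => N.val.presheaf.map k x) (Quiver.Hom.unop_inj (Over.OverMorphism.ext ?_))
      exact Over.w f.unop
    · show N.val.presheaf.map _ x = x
      refine Eq.trans (congrArg (fun k => N.val.presheaf.map k x) (?_ : _ = 𝟙 (topOver X))) ?_
      · exact Quiver.Hom.unop_inj (Over.OverMorphism.ext rfl)
      · rw [CategoryTheory.Functor.map_id]; rfl

/-- maps out of the free module on `X` -/
noncomputable def secEquiv (X : C) (M : ModSite.Mod O) :
    (ModSite.freeOn O X ⟶ M) ≃ M.val.obj (op X) :=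
  ((ModSite.extZeroAdj O X).homEquiv (SheafOfModules.unit _) M).trans
    ((((ModSite.restr O X).obj M).unitHomEquiv).trans
      (Equiv.ofBijective _ (sections_bijective O X ((ModSite.restr O X).obj M))))

theorem secEquiv_comp (X : C) {M N : ModSite.Mod O} (g : ModSite.freeOn O X ⟶ M) (p : M ⟶ N) :
    secEquiv O X N (g ≫ p) = p.val.app (op X) (secEquiv O X M g) := by
  simp only [secEquiv, Equiv.trans_apply, Adjunction.homEquiv_naturality_right]
  rfl

theorem detecting (G : Set C)
    (hG : ∀ X : C, ∃ (ι : Type u) (Y : ι → C) (f : ∀ i, Y i ⟶ X), Sieve.ofArrows Y f ∈ J X ∧ ∀ i, Y i ∈ G) :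
    (ObjectProperty.ofObj fun X : G => ModSite.freeOn O (X : C)).IsDetecting := by
  intro M N φ h
  let T := SheafOfModules.toSheaf.{u} (ModSite.ringSh O) ⋙ sheafCompose J (forget AddCommGrpCat.{u})
  haveI : IsIso (T.map φ) := by
    refine SubTopos.SiteLemmas.isDetecting J G hG (T.map φ) fun A hA g => ?_
    obtain ⟨X, hX⟩ := hA
    let e : ∀ F : Sheaf J (Type u), ((presheafToSheaf J (Type u)).obj (yoneda.obj X) ⟶ F) ≃ F.obj.obj (op X) :=
      fun F => ((sheafificationAdjunction J (Type u)).homEquiv _ _).trans yonedaEquiv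
    have he : ∀ k, e (T.obj N) (k ≫ T.map φ) = φ.val.app (op X) (e (T.obj M) k) := by
      intro k
      simp only [e, Equiv.trans_apply, Adjunction.homEquiv_naturality_right, yonedaEquiv_comp]
      rfl
    obtain ⟨s, hs, hu⟩ := h _ (ObjectProperty.ofObj_apply _ (⟨X, hX⟩ : G)) ((secEquiv O X N).symm (e (T.obj N) g))
    refine ⟨(e (T.obj M)).symm (secEquiv O X M s), (e (T.obj N)).injective ?_, fun g' hg' => ?_⟩
    · rw [he, Equiv.apply_symm_apply]
      refine (secEquiv_comp O X s φ).symm.trans ?_
      rw [hs, Equiv.apply_symm_apply]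
    · have h2 := hu ((secEquiv O X M).symm (e (T.obj M) g')) ((secEquiv O X N).injective (by
        rw [secEquiv_comp, Equiv.apply_symm_apply, Equiv.apply_symm_apply]
        exact (he g').symm.trans (congrArg (e (T.obj N)) hg')))
      refine (e (T.obj M)).injective ?_
      rw [Equiv.apply_symm_apply, ← h2, Equiv.apply_symm_apply]
  exact isIso_of_reflects_iso φ T

theorem iso_of_homEquiv {E : Type*} [Category E] {A B : E} (e : ∀ M : E, (A ⟶ M) ≃ (B ⟶ M))
    (he : ∀ (M N : E) (g : A ⟶ M) (p : M ⟶ N), e N (g ≫ p) = e M g ≫ p) : Nonempty (A ≅ B) := by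
  refine ⟨⟨(e B).symm (𝟙 B), e A (𝟙 A), ?_, ?_⟩⟩
  · apply (e A).injective
    rw [he, Equiv.apply_symm_apply, Category.id_comp]
  · rw [← he, Category.id_comp, Equiv.apply_symm_apply]

end Groth.Agent.ModSite9
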