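import Groth.Agent.ModSite9.ToSheaf
import Groth.Agent.ShMod.Grothendieck
import Groth.Prelude.Def_ModSite2

/-!
Restriction along a cocontinuous continuous functor is a left adjoint on sheaves of modules.
-/

universe u

set_option autoImplicit false

open CategoryTheory CategoryTheory.Limits Opposite

namespace Groth.Agent.ModSite9

variable {C : Type u} [SmallCategory C] {D : Type u} [SmallCategory D] {J : GrothendieckTopology C}
  {K : GrothendieckTopology D} {F : C ⥤ D} [F.IsContinuous J K] [F.IsCocontinuous J K]
  {S : Sheaf J RingCat.{u}} {R : Sheaf K RingCat.{u}}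

theorem pushforward_preservesColimits (φ : S ⟶ (F.sheafPushforwardContinuous RingCat.{u} J K).obj R) :
    PreservesColimitsOfSize.{u, u} (SheafOfModules.pushforward.{u} φ) := by
  let e : SheafOfModules.pushforward.{u} φ ⋙ SheafOfModules.toSheaf S ≅
      SheafOfModules.toSheaf R ⋙ F.sheafPushforwardContinuous AddCommGrpCat.{u} J K :=
    NatIso.ofComponents (fun _ => Iso.refl _) (fun _ => (Category.comp_id _).trans (Category.id_comp _).symm)
  haveI : PreservesColimitsOfSize.{u, u} (F.sheafPushforwardContinuous AddCommGrpCat.{u} J K) :=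
    (F.sheafAdjunctionCocontinuous AddCommGrpCat.{u} J K).leftAdjoint_preservesColimits
  haveI : PreservesColimitsOfSize.{u, u} (SheafOfModules.pushforward.{u} φ ⋙ SheafOfModules.toSheaf S) :=
    preservesColimits_of_natIso e.symm
  haveI : HasColimitsOfSize.{u, u} (SheafOfModules.{u} S) := inferInstance
  haveI : ReflectsColimitsOfSize.{u, u} (SheafOfModules.toSheaf.{u} S) :=
    reflectsColimits_of_reflectsIsomorphisms
  exact preservesColimits_of_reflects_of_preserves _ (SheafOfModules.toSheaf S)

theorem pushforward_isLeftAdjoint (φ : S ⟶ (F.sheafPushforwardContinuous RingCat.{u} J K).obj R) :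
    (SheafOfModules.pushforward.{u} φ).IsLeftAdjoint := by
  haveI := pushforward_preservesColimits φ
  haveI := Groth.Agent.ShMod.Grothendieck.isGrothendieckAbelian R
  haveI := Groth.Agent.ShMod.Grothendieck.isGrothendieckAbelian S
  haveI : WellPowered.{u} (SheafOfModules.{u} R) := IsGrothendieckAbelian.wellPowered _
  haveI : WellPowered.{u} (SheafOfModules.{u} R)ᵒᵖ := Abelian.wellPowered_opposite
  exact isLeftAdjoint_of_preservesColimits_of_isSeparating.{u}
    (P := ObjectProperty.singleton (separator (SheafOfModules.{u} R))) (isSeparator_separator _) _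

theorem restr_colimits (O : Sheaf J CommRingCat.{u}) (X : C) :
    PreservesFiniteColimits (ModSite.restr O X) :=
  haveI : PreservesColimitsOfSize.{u, u} (ModSite.restr O X) :=
    pushforward_preservesColimits (F := Over.forget X) (𝟙 ((ModSite.ringSh O).over X))
  PreservesColimitsOfSize.preservesFiniteColimits.{u, u} _

theorem hasPushOver (O : Sheaf J CommRingCat.{u}) (X : C) : ModSite.HasPushOver O X :=
  pushforward_isLeftAdjoint (F := Over.forget X) (𝟙 ((ModSite.ringSh O).over X))

end Groth.Agent.ModSite9
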