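import Groth.Agent.ModSite9.FlatCriterion2
import Groth.Agent.ModSite9.PushLeftAdjoint

/-!
Maps from finitely presented modules to flat modules factor locally through finite free modules.
-/

universe u

set_option autoImplicit false

open CategoryTheory CategoryTheory.Limits Opposite

namespace Groth.Agent.ModSite9

variable {C : Type u} [SmallCategory C] {J : GrothendieckTopology C} {O : Sheaf J CommRingCat.{u}}

/-- value of a map out of the unit -/
noncomputable def uval {A : Sheaf J RingCat.{u}} {N : SheafOfModules.{u} A} (g : SheafOfModules.unit A ⟶ N)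
    (W : Cᵒᵖ) : N.val.obj W :=
  (g.val.app W).hom (1 : A.obj.obj W)

theorem uval_comp {A : Sheaf J RingCat.{u}} {M N : SheafOfModules.{u} A} (g : SheafOfModules.unit A ⟶ M)
    (p : M ⟶ N) (W : Cᵒᵖ) : uval (g ≫ p) W = (p.val.app W).hom (uval g W) := rfl

theorem uval_scalar {A : Sheaf J RingCat.{u}} {N : SheafOfModules.{u} A} (a : SheafOfModules.unit A ⟶ SheafOfModules.unit A)
    (g : SheafOfModules.unit A ⟶ N) (W : Cᵒᵖ) :
    uval (a ≫ g) W = (show A.obj.obj W from uval a W) • uval g W := by
  refine Eq.trans ?_ ((g.val.app W).hom.map_smul _ _)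
  exact congrArg (g.val.app W).hom (mul_one (show A.obj.obj W from uval a W)).symm

theorem uval_sum {A : Sheaf J RingCat.{u}} {N : SheafOfModules.{u} A} {ι : Type*} (S : Finset ι)
    (g : ι → (SheafOfModules.unit A ⟶ N)) (W : Cᵒᵖ) : uval (∑ i ∈ S, g i) W = ∑ i ∈ S, uval (g i) W := by
  classical
  induction S using Finset.induction_on with
  | empty => rfl
  | insert a S ha ih =>
    rw [Finset.sum_insert ha, Finset.sum_insert ha, ← ih]
    rfl

theorem uval_ext {X : C} {N : SheafOfModules.{u} ((ModSite.ringSh O).over X)}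
    {g g' : SheafOfModules.unit ((ModSite.ringSh O).over X) ⟶ N}
    (h : uval g (topOver X) = uval g' (topOver X)) : g = g' :=
  N.unitHomEquiv.injective ((sections_bijective O X N).injective h)

theorem exists_uval {X : C} {N : SheafOfModules.{u} ((ModSite.ringSh O).over X)} (x : N.val.obj (topOver X)) :
    ∃ g : SheafOfModules.unit ((ModSite.ringSh O).over X) ⟶ N, uval g (topOver X) = x := by
  obtain ⟨s, hs⟩ := (sections_bijective O X N).surjective x
  refine ⟨N.unitHomEquiv.symm s, ?_⟩
  exact (congrArg (fun t : N.sections => t.1 (topOver X)) (N.unitHomEquiv.apply_symm_apply s)).trans hs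

theorem free_hom_ext {A : Sheaf J RingCat.{u}} {I : Type u} {N : SheafOfModules.{u} A}
    {f g : SheafOfModules.free I ⟶ N} (h : ∀ i, SheafOfModules.ιFree i ≫ f = SheafOfModules.ιFree i ≫ g) : f = g :=
  Cofan.IsColimit.hom_ext (SheafOfModules.isColimitFreeCofan I) _ _ h

theorem exists_free_desc {A : Sheaf J RingCat.{u}} {I : Type u} {N : SheafOfModules.{u} A}
    (f : I → (SheafOfModules.unit A ⟶ N)) :
    ∃ g : SheafOfModules.free I ⟶ N, ∀ i, SheafOfModules.ιFree i ≫ g = f i :=
  ⟨Cofan.IsColimit.desc (SheafOfModules.isColimitFreeCofan I) f,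
    fun i => Cofan.IsColimit.fac (SheafOfModules.isColimitFreeCofan I) f i⟩

theorem exists_local_factor (F H : ModSite.Mod O) (hH : ModSite.IsFlat H) (φ : F ⟶ H) {Xi : C}
    (P : (SheafOfModules.over F Xi).Presentation) [P.IsFinite] {Y : C} (q : Y ⟶ Xi) :
    ∃ S ∈ J Y, ∀ ⦃V : C⦄ (h : V ⟶ Y), S h →
      ∃ (n : ℕ) (a : (ModSite.restr O V).obj F ⟶ SheafOfModules.free (ULift.{u} (Fin n)))
        (b : SheafOfModules.free (ULift.{u} (Fin n)) ⟶ (ModSite.restr O V).obj H),
        a ≫ b = (ModSite.restr O V).map φ := by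
  classical
  let A : Sheaf (J.over Xi) RingCat.{u} := (ModSite.ringSh O).over Xi
  haveI : Finite P.generators.I := SheafOfModules.GeneratingSections.IsFiniteType.finite
  haveI : Finite P.relations.I := SheafOfModules.GeneratingSections.IsFiniteType.finite
  let G := P.generators.I
  let Rl := P.relations.I
  haveI : Fintype G := Fintype.ofFinite _
  haveI : Fintype Rl := Fintype.ofFinite _
  let π : SheafOfModules.free G ⟶ SheafOfModules.over F Xi := P.generators.π
  let r : SheafOfModules.free Rl ⟶ SheafOfModules.free G :=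
    (SheafOfModules.freeHomEquiv _).symm P.relations.s ≫ kernel.ι P.generators.π
  choose pr hpr using fun j : G => exists_free_desc (A := A) (I := G)
    (fun i => if i = j then 𝟙 _ else 0)
  have htot : ∀ {I : Type u} (g : SheafOfModules.free I ⟶ SheafOfModules.free G) (i : I),
      SheafOfModules.ιFree i ≫ g = ∑ j, (SheafOfModules.ιFree i ≫ g ≫ pr j) ≫ SheafOfModules.ιFree j := by
    intro I g i
    have e : 𝟙 (SheafOfModules.free G) = ∑ j, pr j ≫ SheafOfModules.ιFree (R := A) j := by
      refine free_hom_ext fun i => ?_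
      rw [Category.comp_id, Preadditive.comp_sum, Finset.sum_eq_single i
        (fun j _ hj => by rw [reassoc_of% (hpr j i), if_neg (Ne.symm hj), zero_comp]) (by simp),
        reassoc_of% (hpr i i)]
      simp
    conv_lhs => rw [← Category.comp_id g, e]
    simp only [Preadditive.comp_sum, Category.assoc]
  let sh : G → (SheafOfModules.unit A ⟶ SheafOfModules.over H Xi) := fun j =>
    SheafOfModules.ιFree j ≫ π ≫ SheafOfModules.Hom.over φ Xi
  let al : Rl → G → (SheafOfModules.unit A ⟶ SheafOfModules.unit A) := fun i j =>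
    SheafOfModules.ιFree i ≫ r ≫ pr j
  have hrel : ∀ i, ∑ j, al i j ≫ sh j = 0 := by
    intro i
    have hrπ : r ≫ π = 0 := by simp [r, π]
    have h := congrArg (fun z => z ≫ π ≫ SheafOfModules.Hom.over φ Xi) (htot r i)
    simp only [Preadditive.sum_comp, Category.assoc, reassoc_of% hrπ, zero_comp, comp_zero] at h
    exact Eq.trans (by simp [al, sh]) h.symm
  let eG := (Fintype.equivFin G).symm
  let eR := (Fintype.equivFin Rl).symm
  let W₀ : (Over Xi)ᵒᵖ := op (Over.mk q)
  let Am : Fin (Fintype.card Rl) → Fin (Fintype.card G) → O.obj.obj (op Y) := fun i j => uval (al (eR i) (eG j)) W₀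
  let sm : Fin (Fintype.card G) → ModSite.sect H Y := fun j => uval (sh (eG j)) W₀
  obtain ⟨S, hS, hS'⟩ := (relTriv_of_flat hH).simultaneous Y _ _ Am sm (fun i => by
    have h := congrArg (fun z => uval z W₀) (hrel (eR i))
    simp only [uval_sum, uval_scalar] at h
    exact (eG.sum_comp (fun j => (show A.obj.obj W₀ from uval (al (eR i) j) W₀) • uval (sh j) W₀)).trans (h.trans rfl))
  refine ⟨S, hS, fun V h hh => ?_⟩
  obtain ⟨n, t, B, ht, hB⟩ := hS' h hh
  let k : V ⟶ Xi := h ≫ q
  let AV : Sheaf (J.over V) RingCat.{u} := (ModSite.ringSh O).over V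
  let R : SheafOfModules.{u} A ⥤ SheafOfModules.{u} AV := SheafOfModules.overMap (ModSite.ringSh O) k
  haveI : PreservesColimitsOfSize.{u, u} R :=
    pushforward_preservesColimits (F := Over.map k) (Sheaf.pushforwardOverMapIso (ModSite.ringSh O) k).inv
  haveI : R.Additive := ⟨fun {_ _ _ _} => rfl⟩
  haveI : PreservesFiniteColimits R := PreservesColimitsOfSize.preservesFiniteColimits.{u, u} R
  let η : SheafOfModules.unit AV ≅ R.obj (SheafOfModules.unit A) :=
    (SheafOfModules.overMapUnitIso (R := ModSite.ringSh O) k).symm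
  let μ := fun I : Type u => SheafOfModules.mapFreeIso (S := AV) R I η
  choose βs hβ using fun (j : G) (l : Fin n) =>
    exists_uval (O := O) (X := V) (N := SheafOfModules.unit AV) (B (eG.symm j) l)
  choose ts hts using fun l : Fin n => exists_uval (O := O) (X := V) (N := SheafOfModules.over H V) (t l)
  obtain ⟨c, hc⟩ := exists_free_desc (A := AV) (I := G)
    (fun j => ∑ l, βs j l ≫ SheafOfModules.ιFree (R := AV) (ULift.up.{u} l))
  obtain ⟨b, hb⟩ := exists_free_desc (A := AV) (I := ULift.{u} (Fin n)) (fun l => ts l.down)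
  -- values at `V`
  have hval : ∀ {N : SheafOfModules.{u} A} (g : SheafOfModules.unit A ⟶ N),
      uval (η.hom ≫ R.map g) (topOver V) = (N.val.map (Over.homMk h (by simp [k]) :
        Over.mk ((𝟙 V) ≫ k) ⟶ Over.mk q).op).hom (uval g W₀) := fun {N} g => by
    refine Eq.trans ?_ (PresheafOfModules.naturality_apply g.val
      (Over.homMk h (by simp [k]) : Over.mk ((𝟙 V) ≫ k) ⟶ Over.mk q).op
      (1 : A.obj.obj W₀))
    show (g.val.app (op (Over.mk (𝟙 V ≫ k)))).hom (1 : A.obj.obj (op (Over.mk (𝟙 V ≫ k)))) =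
      (g.val.app (op (Over.mk (𝟙 V ≫ k)))).hom _
    exact congrArg _ (map_one (A.obj.map _).hom).symm
  have h1 : ((μ Rl).hom ≫ R.map r ≫ (μ G).inv) ≫ c = 0 := by
    refine free_hom_ext fun i => ?_
    rw [comp_zero, Category.assoc, Category.assoc, SheafOfModules.ιFree_mapFreeIso_hom_assoc, ← R.map_comp_assoc,
      htot r i, R.map_sum]
    simp only [Preadditive.sum_comp, Preadditive.comp_sum, R.map_comp, Category.assoc]
    refine Eq.trans (Finset.sum_congr rfl fun j _ => ?_)
      (Finset.sum_comm.trans (Finset.sum_eq_zero (s := (Finset.univ : Finset (Fin n))) (f := fun l => ∑ j : G,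
        (η.hom ≫ R.map (al i j) ≫ η.inv ≫ βs j l) ≫ SheafOfModules.ιFree (R := AV) (ULift.up.{u} l))
        fun l _ => ?_))
    · rw [SheafOfModules.map_ιFree_mapFreeIso_inv_assoc, hc j]
      simp only [Preadditive.comp_sum, Category.assoc, al, R.map_comp]
    · rw [← Preadditive.sum_comp, show (∑ j : G, η.hom ≫ R.map (al i j) ≫ η.inv ≫ βs j l) = 0 from ?_, zero_comp]
      refine uval_ext (O := O) ?_
      rw [uval_sum]
      refine Eq.trans ?_ (show (0 : O.obj.obj (op V)) = uval (0 : SheafOfModules.unit AV ⟶ SheafOfModules.unit AV)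
        (topOver V) from rfl)
      refine Eq.trans ?_ (hB (eR.symm i) l)
      refine (eG.sum_comp _).symm.trans (Finset.sum_congr rfl fun j _ => ?_)
      refine ((congrArg (fun z => uval z (topOver V))
        (by simp : η.hom ≫ R.map (al i (eG j)) ≫ η.inv ≫ βs (eG j) l =
          (η.hom ≫ R.map (al i (eG j)) ≫ η.inv) ≫ βs (eG j) l)).trans
        (uval_scalar (η.hom ≫ R.map (al i (eG j)) ≫ η.inv) (βs (eG j) l) (topOver V))).trans ?_
      · show (show AV.obj.obj (topOver V) from uval (η.hom ≫ R.map (al i (eG j))) (topOver V)) •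
          uval (βs (eG j) l) (topOver V) = _
        rw [hval, hβ, mul_comm]
        simp only [Equiv.symm_apply_apply, Am, Equiv.apply_symm_apply]
        rfl
  have h2 : (μ G).hom ≫ R.map (π ≫ SheafOfModules.Hom.over φ Xi) ≫
      (SheafOfModules.overFunctorMap (ModSite.ringSh O) k).hom.app H = c ≫ b := by
    refine free_hom_ext fun j => ?_
    rw [SheafOfModules.ιFree_mapFreeIso_hom_assoc, ← R.map_comp_assoc, reassoc_of% (hc j)]
    simp only [Preadditive.sum_comp, Category.assoc, hb]
    refine uval_ext (O := O) ?_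
    rw [uval_sum]
    refine Eq.trans (hval (sh j)) ?_
    refine Eq.trans ?_ (Eq.symm (Finset.sum_congr rfl fun l _ => uval_scalar (βs j l) (ts l) (topOver V)))
    simp only [hβ, hts]
    refine Eq.trans ?_ (ht (eG.symm j))
    simp only [sm, Equiv.apply_symm_apply]
    rfl
  let hcol := isColimitCoforkMapOfIsColimit' R (by simp [r, π]) P.isColimit
  let f' := CokernelCofork.IsColimit.desc' hcol ((μ G).inv ≫ c) (by
    have e : R.map r ≫ (μ G).inv ≫ c = 0 := by
      rw [← cancel_epi (μ Rl).hom, comp_zero]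
      simpa only [Category.assoc] using h1
    exact e)
  obtain ⟨a', ha'⟩ := f'
  change R.map π ≫ a' = _ at ha'
  show ∃ (n : ℕ) (a : SheafOfModules.over F V ⟶ SheafOfModules.free (R := AV) (ULift.{u} (Fin n)))
    (b : SheafOfModules.free (R := AV) (ULift.{u} (Fin n)) ⟶ SheafOfModules.over H V),
    a ≫ b = SheafOfModules.Hom.over φ V
  refine ⟨n, (SheafOfModules.overFunctorMap (ModSite.ringSh O) k).inv.app F ≫ a', b, ?_⟩
  rw [Category.assoc, ← cancel_epi ((SheafOfModules.overFunctorMap (ModSite.ringSh O) k).hom.app F)]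
  simp only [Iso.hom_inv_id_app_assoc]
  haveI : Epi (R.map π) := by
    haveI : Epi π := P.generators.epi
    infer_instance
  rw [← cancel_epi (R.map π), reassoc_of% ha', ← h2, Iso.inv_hom_id_assoc, R.map_comp, Category.assoc]
  exact congrArg (R.map π ≫ ·) ((SheafOfModules.overFunctorMap (ModSite.ringSh O) k).hom.naturality φ)

end Groth.Agent.ModSite9
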