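import Groth.Agent.ModSite9.Projection

/-!
The projection formula is natural in the module on the base.
-/

universe u

set_option autoImplicit false

open CategoryTheory CategoryTheory.Limits MonoidalCategory Opposite

namespace Groth.Agent.ModSite9

open ModTensor

variable {C : Type u} [SmallCategory C] {J : GrothendieckTopology C} (O : Sheaf J CommRingCat.{u}) (X : C)

theorem chain6 {D : Type*} [Category D] {a₀ a₁ a₂ a₃ a₄ a₅ a₆ b₀ b₁ b₂ b₃ b₄ b₅ b₆ : D} {x₀ : a₀ ⟶ b₀}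
    {x₁ : a₁ ⟶ b₁} {x₂ : a₂ ⟶ b₂} {x₃ : a₃ ⟶ b₃} {x₄ : a₄ ⟶ b₄} {x₅ : a₅ ⟶ b₅} {x₆ : a₆ ⟶ b₆}
    {p₁ : a₀ ⟶ a₁} {p₂ : a₁ ⟶ a₂} {p₃ : a₂ ⟶ a₃} {p₄ : a₃ ⟶ a₄} {p₅ : a₄ ⟶ a₅} {p₆ : a₅ ⟶ a₆}
    {q₁ : b₀ ⟶ b₁} {q₂ : b₁ ⟶ b₂} {q₃ : b₂ ⟶ b₃} {q₄ : b₃ ⟶ b₄} {q₅ : b₄ ⟶ b₅} {q₆ : b₅ ⟶ b₆}
    (h1 : x₀ ≫ q₁ = p₁ ≫ x₁) (h2 : x₁ ≫ q₂ = p₂ ≫ x₂) (h3 : x₂ ≫ q₃ = p₃ ≫ x₃) (h4 : x₃ ≫ q₄ = p₄ ≫ x₄)
    (h5 : x₄ ≫ q₅ = p₅ ≫ x₅) (h6 : x₅ ≫ q₆ = p₆ ≫ x₆) :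
    x₀ ≫ q₁ ≫ q₂ ≫ q₃ ≫ q₄ ≫ q₅ ≫ q₆ = (p₁ ≫ p₂ ≫ p₃ ≫ p₄ ≫ p₅ ≫ p₆) ≫ x₆ := by
  rw [reassoc_of% h1, reassoc_of% h2, reassoc_of% h3, reassoc_of% h4, reassoc_of% h5, h6]
  simp only [Category.assoc]

theorem projFlip_natural_right (P : ModSite.Mod (O.over X)) {N N' : ModSite.Mod O} (b : N ⟶ N') :
    (ModSite.extZero O X).map (((ModSite.tensorBi (O.over X)).obj P).map ((ModSite.restr O X).map b)) ≫
        (projFlip O X N').hom.app P =
      (projFlip O X N).hom.app P ≫ ((ModSite.tensorBi O).obj ((ModSite.extZero O X).obj P)).map b := by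
  let G : ModSite.Mod (O.over X) ⥤ ModSite.Mod O := ModSite.extZero O X
  let P₀ := psh P
  let g : psh N ⟶ psh N' := (fgt O).map b
  haveI : IsIso (ModTensor.adj (O.over X)).counit :=
    (inferInstance : IsIso (PresheafOfModules.sheafificationAdjunction (𝟙 (ModSite.ringSh (O.over X)).obj)).counit)
  dsimp only [projFlip, Iso.trans_hom, NatTrans.comp_app]
  refine chain6 (x₁ := G.map ((sh (O.over X)).map (P₀ ◁ (resC O X).map g)))
    (x₂ := (sh O).map ((extC O X).map (P₀ ◁ (resC O X).map g)))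
    (x₃ := (sh O).map ((extC O X).obj P₀ ◁ g))
    (x₄ := ((ModSite.tensorBi O).obj ((sh O).obj ((extC O X).obj P₀))).map b)
    (x₅ := ((ModSite.tensorBi O).obj (G.obj ((sh (O.over X)).obj P₀))).map b) ?_ ?_ ?_ ?_ ?_ ?_
  · refine (G.map_comp _ _).symm.trans ((congrArg G.map ?_).trans (G.map_comp _ _))
    have h := congrArg (fun z => P₀ ◁ z) ((fgtResIso O X).hom.naturality b)
    simp only [MonoidalCategory.whiskerLeft_comp] at h
    have h' := (((sh (O.over X)).map_comp _ _).symm.trans (congrArg (sh (O.over X)).map h)).trans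
      ((sh (O.over X)).map_comp _ _)
    refine Eq.trans ?_ (h'.trans ?_)
    · exact congrArg (_ ≫ ·) (Category.id_comp _)
    · exact congrArg (· ≫ _) (Category.id_comp _).symm
  · exact (extShIso O X).hom.naturality (P₀ ◁ (resC O X).map g)
  · exact ((sh O).map_comp _ _).symm.trans
      ((congrArg (sh O).map (theta_natural_right P₀ g)).trans ((sh O).map_comp _ _))
  · exact ((sh O).map_comp _ _).symm.trans ((congrArg (sh O).map
      (MonoidalCategory.whisker_exchange (η ((extC O X).obj P₀)) g)).trans ((sh O).map_comp _ _))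
  · exact ((ModSite.tensorBi O).map ((extShIso O X).symm.hom.app P₀)).naturality b
  · exact ((ModSite.tensorBi O).map (G.map ((ModTensor.adj (O.over X)).counit.app P))).naturality b

end Groth.Agent.ModSite9
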