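import Groth.Agent.ModSite9.RestrTensor
import Groth.Agent.ModSite9.FreeOn

/-!
Consequences of the projection formula on a ringed site.
-/

universe u

set_option autoImplicit false

open CategoryTheory CategoryTheory.Limits MonoidalCategory Opposite

namespace Groth.Agent.ModSite9

open ModTensor

variable {C : Type u} [SmallCategory C] {J : GrothendieckTopology C} (O : Sheaf J CommRingCat.{u}) (X : C)

theorem extZero_exact : PreservesFiniteLimits (ModSite.extZero O X) ∧ (ModSite.extZero O X).Faithful :=
  ⟨(ExtZero9.exact_of_adjunction (U := X) (A := ModSite.ringSh O) (ModSite.extZeroAdj O X)).1,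
    (ExtZero9.exact_of_adjunction (U := X) (A := ModSite.ringSh O) (ModSite.extZeroAdj O X)).2.2⟩

theorem preservesMonos_extZero : (ModSite.extZero O X).PreservesMonomorphisms := by
  haveI := (extZero_exact O X).1
  infer_instance

theorem preservesMonos_restr : (ModSite.restr O X).PreservesMonomorphisms :=
  Functor.preservesMonomorphisms_of_adjunction (ModSite.extZeroAdj O X)

/-- `O ⊗ - ≅ 𝟭` -/
noncomputable def unitTensor : (ModSite.tensorBi O).obj (ModSite.unit O) ≅ 𝟭 (ModSite.Mod O) :=
  haveI : IsIso (ModTensor.adj O).counit :=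
    (inferInstance : IsIso (PresheafOfModules.sheafificationAdjunction (𝟙 (ModSite.ringSh O).obj)).counit)
  objIso O (ModSite.unit O) ≪≫
    Functor.isoWhiskerLeft (fgt O) (Functor.isoWhiskerRight (leftUnitorNatIso (Psh O)) (sh O)) ≪≫
    (NatIso.ofComponents (fun _ => Iso.refl _) (fun _ => (Category.comp_id _).trans (Category.id_comp _).symm) :
      fgt O ⋙ 𝟭 (Psh O) ⋙ sh O ≅ incl O ⋙ sh O) ≪≫
    asIso (ModTensor.adj O).counit

/-- `freeOn X ⊗ M ≅ j_! (M|_X)` -/
noncomputable def freeOnTensor (M : ModSite.Mod O) :
    ((ModSite.tensorBi O).obj (ModSite.freeOn O X)).obj M ≅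
      (ModSite.extZero O X).obj ((ModSite.restr O X).obj M) :=
  ((projObj O X (ModSite.unit (O.over X))).app M).symm ≪≫
    (ModSite.extZero O X).mapIso ((unitTensor (O.over X)).app ((ModSite.restr O X).obj M))

theorem isFlat_extZero (M : ModSite.Mod (O.over X)) (hM : ModSite.IsFlat M) :
    ModSite.IsFlat ((ModSite.extZero O X).obj M) := by
  haveI := preservesMonos_obj hM
  haveI := preservesMonos_extZero O X
  haveI := preservesMonos_restr O X
  exact isFlat_of_obj ((Functor.preservesMonomorphisms.iso_iff (projObj O X M)).1 inferInstance)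

theorem isFlat_unit : ModSite.IsFlat (ModSite.unit O) :=
  isFlat_of_obj ((Functor.preservesMonomorphisms.iso_iff (unitTensor O)).2 inferInstance)

theorem isFlat_freeOn : ModSite.IsFlat (ModSite.freeOn O X) :=
  isFlat_extZero O X _ (isFlat_unit (O.over X))

theorem isFlat_restr (M : ModSite.Mod O) (hM : ModSite.IsFlat M) : ModSite.IsFlat ((ModSite.restr O X).obj M) := by
  haveI := (isFlat_iff M).1 hM
  haveI := preservesMonos_extZero O X
  haveI := (extZero_exact O X).2
  haveI : (((ModSite.tensorBi (O.over X)).flip.obj ((ModSite.restr O X).obj M)) ⋙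
      ModSite.extZero O X).PreservesMonomorphisms :=
    (Functor.preservesMonomorphisms.iso_iff (projFlip O X M)).2 inferInstance
  exact (isFlat_iff _).2
    (Functor.preservesMonomorphisms_of_preserves_of_reflects _ (ModSite.extZero O X))

/-- restriction commutes with internal hom -/
noncomputable def sheafHomRestr (M : ModSite.Mod O) [ModSite.HasSheafHom M]
    [ModSite.HasSheafHom ((ModSite.restr O X).obj M)] :
    ModSite.sheafHom M ⋙ ModSite.restr O X ≅
      ModSite.restr O X ⋙ ModSite.sheafHom ((ModSite.restr O X).obj M) :=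
  (((ModSite.extZeroAdj O X).comp (ModSite.sheafHomAdj M)).ofNatIsoLeft (projFlip O X M).symm).rightAdjointUniq
    ((ModSite.sheafHomAdj ((ModSite.restr O X).obj M)).comp (ModSite.extZeroAdj O X))

theorem restr_additive : (ModSite.restr O X).Additive := ⟨fun {_ _ _ _} => rfl⟩

theorem secEquiv_add (M : ModSite.Mod O) (f g : ModSite.freeOn O X ⟶ M) :
    secEquiv O X M (f + g) = secEquiv O X M f + secEquiv O X M g := by
  haveI : (ModSite.restr O X).Additive := restr_additive O X
  simp only [secEquiv, Equiv.trans_apply, Adjunction.homEquiv_unit, Functor.map_add, Preadditive.comp_add]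
  rfl

/-- sections of the internal hom -/
noncomputable def sectSheafHom (M N : ModSite.Mod O) [ModSite.HasSheafHom M] :
    ModSite.sect ((ModSite.sheafHom M).obj N) X ≃+
      ((ModSite.restr O X).obj M ⟶ (ModSite.restr O X).obj N) :=
  haveI : ((ModSite.tensorBi O).flip.obj M).Additive :=
    haveI := preservesBinaryBiproducts_of_preservesBinaryCoproducts ((ModSite.tensorBi O).flip.obj M)
    Functor.additive_of_preservesBinaryBiproducts _
  haveI : (ModSite.restr O X).Additive := restr_additive O X
  haveI : (ModSite.extZero O X).Additive := (ModSite.extZeroAdj O X).left_adjoint_additive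
  let e : (((ModSite.tensorBi O).obj (ModSite.freeOn O X)).obj M ⟶ N) ≃+
      ((ModSite.extZero O X).obj ((ModSite.restr O X).obj M) ⟶ N) :=
    { toFun := fun φ => (freeOnTensor O X M).inv ≫ φ
      invFun := fun φ => (freeOnTensor O X M).hom ≫ φ
      left_inv := fun φ => by simp
      right_inv := fun φ => by simp
      map_add' := fun φ ψ => Preadditive.comp_add _ _ _ _ φ ψ }
  ({ secEquiv O X ((ModSite.sheafHom M).obj N) with map_add' := secEquiv_add O X _ } :
      (ModSite.freeOn O X ⟶ (ModSite.sheafHom M).obj N) ≃+ ModSite.sect ((ModSite.sheafHom M).obj N) X).symm.trans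
    ((((ModSite.sheafHomAdj M).homAddEquiv (ModSite.freeOn O X) N).symm.trans e).trans
      ((ModSite.extZeroAdj O X).homAddEquiv ((ModSite.restr O X).obj M) N))

end Groth.Agent.ModSite9
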