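import Groth.Agent.ModTensor.Flat
import Groth.Agent.ExtZero9.Shf
import Mathlib.Algebra.Category.ModuleCat.Presheaf.PushforwardZeroMonoidal

/-!
Restriction to a slice site commutes with the tensor product; projection formula for extension by zero.
-/

universe u

set_option autoImplicit false

open CategoryTheory CategoryTheory.Limits MonoidalCategory Opposite

namespace Groth.Agent.ModSite9

open ModTensor

variable {C : Type u} [SmallCategory C] {J : GrothendieckTopology C} (O : Sheaf J CommRingCat.{u}) (X : C)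

/-- restriction of presheaves of modules -/
noncomputable abbrev resC : Psh O ⥤ Psh (O.over X) :=
  PresheafOfModules.pushforward₀OfCommRingCat (Over.forget X) O.obj

noncomputable instance monoidalResC : (resC O X).Monoidal :=
  inferInstanceAs (PresheafOfModules.pushforward₀OfCommRingCat (Over.forget X) O.obj).Monoidal

/-- extension by zero of presheaves of modules -/
noncomputable abbrev extC : Psh (O.over X) ⥤ Psh O :=
  ExtZero9.ext X (O.obj ⋙ forget₂ CommRingCat.{u} RingCat.{u})

/-- the adjunction -/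
noncomputable abbrev extCAdj : extC O X ⊣ resC O X :=
  ExtZero9.adj X (O.obj ⋙ forget₂ CommRingCat.{u} RingCat.{u})

/-- the right adjoint of sheafification -/
noncomputable abbrev incl (O : Sheaf J CommRingCat.{u}) : ModSite.Mod O ⥤ Psh O :=
  SheafOfModules.forget (ModSite.ringSh O) ⋙ PresheafOfModules.restrictScalars (𝟙 (ModSite.ringSh O).obj)

/-- restriction, compared on presheaves -/
noncomputable def inclResIso : ModSite.restr O X ⋙ incl (O.over X) ≅ incl O ⋙ resC O X :=
  NatIso.ofComponents (fun M => PresheafOfModules.isoMk (fun _ => Iso.refl _) fun _ _ _ => rfl)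
    (fun _ => rfl)

/-- restriction, compared on presheaves -/
noncomputable def fgtResIso : ModSite.restr O X ⋙ fgt (O.over X) ≅ fgt O ⋙ resC O X :=
  NatIso.ofComponents (fun M => PresheafOfModules.isoMk (fun _ => Iso.refl _) fun _ _ _ => rfl)
    (fun _ => rfl)

/-- sheafified extension by zero -/
noncomputable def extShIso : sh (O.over X) ⋙ ModSite.extZero O X ≅ extC O X ⋙ sh O :=
  ((ModTensor.adj (O.over X)).comp (ModSite.extZeroAdj O X)).leftAdjointUniq
    (((extCAdj O X).comp (ModTensor.adj O)).ofNatIsoRight (inclResIso O X).symm)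

theorem isIso_sh_of_bijective {P Q : Psh O} (g : P ⟶ Q)
    [Presheaf.IsLocallyInjective J ((PresheafOfModules.toPresheaf _).map g)]
    [Presheaf.IsLocallySurjective J ((PresheafOfModules.toPresheaf _).map g)] : IsIso ((sh O).map g) := by
  haveI := isIso_sh_whiskerRight g (𝟙_ (Psh O))
  have e : (ρ_ P).inv ≫ (g ▷ 𝟙_ (Psh O)) ≫ (ρ_ Q).hom = g := by simp
  rw [← e, Functor.map_comp, Functor.map_comp]
  infer_instance

theorem isIso_sh_res_unit (P : Psh O) : IsIso ((sh (O.over X)).map ((resC O X).map (η P))) := by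
  haveI : Presheaf.IsLocallyInjective (J.over X) ((PresheafOfModules.toPresheaf _).map ((resC O X).map (η P))) :=
    Presheaf.isLocallyInjective_whisker (J.over X) J (Over.forget X) ((PresheafOfModules.toPresheaf _).map (η P))
  haveI : Presheaf.IsLocallySurjective (J.over X) ((PresheafOfModules.toPresheaf _).map ((resC O X).map (η P))) :=
    Presheaf.isLocallySurjective_whisker (J.over X) J (Over.forget X) ((PresheafOfModules.toPresheaf _).map (η P))
  exact isIso_sh_of_bijective (O.over X) _

/-- restriction of the unit of sheafification -/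
noncomputable def shResUnitIso : resC O X ⋙ sh (O.over X) ≅ ((sh O ⋙ incl O) ⋙ resC O X) ⋙ sh (O.over X) :=
  NatIso.ofComponents (fun P => @asIso _ _ _ _ _ (isIso_sh_res_unit O X P))
    (fun {P Q} f => ((sh (O.over X)).map_comp _ _).symm.trans ((congrArg (sh (O.over X)).map
      (((resC O X).map_comp _ _).symm.trans ((congrArg (resC O X).map ((ModTensor.adj O).unit.naturality f)).trans
        ((resC O X).map_comp _ _)))).trans ((sh (O.over X)).map_comp _ _)))

/-- restriction commutes with sheafification -/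
noncomputable def shResIso : resC O X ⋙ sh (O.over X) ≅ sh O ⋙ ModSite.restr O X :=
  haveI : IsIso (ModTensor.adj (O.over X)).counit :=
    (inferInstance : IsIso (PresheafOfModules.sheafificationAdjunction (𝟙 (ModSite.ringSh (O.over X)).obj)).counit)
  shResUnitIso O X ≪≫
    Functor.isoWhiskerRight (Functor.isoWhiskerLeft (sh O) (inclResIso O X).symm) (sh (O.over X)) ≪≫
    Functor.isoWhiskerLeft (sh O ⋙ ModSite.restr O X) (asIso (ModTensor.adj (O.over X)).counit)

/-- `F ⊗ -` through presheaves -/
noncomputable def objIso (F : ModSite.Mod O) :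
    (ModSite.tensorBi O).obj F ≅ fgt O ⋙ tensorLeft (psh F) ⋙ sh O :=
  NatIso.ofComponents (fun _ => Iso.refl _) (fun _ => (Category.comp_id _).trans (Category.id_comp _).symm)

/-- `- ⊗ F` through presheaves -/
noncomputable def flipIso (F : ModSite.Mod O) :
    (ModSite.tensorBi O).flip.obj F ≅ fgt O ⋙ tensorRight (psh F) ⋙ sh O :=
  NatIso.ofComponents (fun _ => Iso.refl _) (fun _ => (Category.comp_id _).trans (Category.id_comp _).symm)

/-- restriction commutes with `M ⊗ -` -/
noncomputable def restrTensorLeft (M : ModSite.Mod O) :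
    (ModSite.tensorBi O).obj M ⋙ ModSite.restr O X ≅
      ModSite.restr O X ⋙ (ModSite.tensorBi (O.over X)).obj ((ModSite.restr O X).obj M) :=
  Functor.isoWhiskerRight (objIso O M) _ ≪≫
    Functor.isoWhiskerLeft (fgt O ⋙ tensorLeft (psh M)) (shResIso O X).symm ≪≫
    Functor.isoWhiskerLeft (fgt O)
      (Functor.isoWhiskerRight (Functor.Monoidal.commTensorLeft (resC O X) (psh M)).symm (sh (O.over X))) ≪≫
    Functor.isoWhiskerRight (fgtResIso O X).symm
      (tensorLeft ((resC O X).obj (psh M)) ⋙ sh (O.over X)) ≪≫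
    Functor.isoWhiskerLeft (ModSite.restr O X)
      (Functor.isoWhiskerLeft (fgt (O.over X)) (Functor.isoWhiskerRight
        ((curriedTensor (Psh (O.over X))).mapIso ((fgtResIso O X).app M).symm) (sh (O.over X))) ≪≫
      (objIso (O.over X) ((ModSite.restr O X).obj M)).symm)

section proj

variable {O X}

/-- the projection map on presheaves -/
noncomputable def theta (P : Psh (O.over X)) (Q : Psh O) :
    (extC O X).obj (P ⊗ (resC O X).obj Q) ⟶ (extC O X).obj P ⊗ Q :=
  ((extCAdj O X).homEquiv _ _).symm
    ((extCAdj O X).unit.app P ▷ (resC O X).obj Q ≫ Functor.LaxMonoidal.μ (resC O X) ((extC O X).obj P) Q)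

theorem theta_natural_left {P P' : Psh (O.over X)} (f : P ⟶ P') (Q : Psh O) :
    (extC O X).map (f ▷ (resC O X).obj Q) ≫ theta P' Q = theta P Q ≫ (extC O X).map f ▷ Q := by
  apply ((extCAdj O X).homEquiv _ _).injective
  rw [Adjunction.homEquiv_naturality_left, Adjunction.homEquiv_naturality_right, theta, theta,
    Equiv.apply_symm_apply, Equiv.apply_symm_apply, Category.assoc, ← Functor.LaxMonoidal.μ_natural_left,
    ← MonoidalCategory.comp_whiskerRight_assoc, ← MonoidalCategory.comp_whiskerRight_assoc]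
  exact congrArg (fun z => z ▷ (resC O X).obj Q ≫ Functor.LaxMonoidal.μ (resC O X) _ _)
    ((extCAdj O X).unit.naturality f)

theorem theta_natural_right (P : Psh (O.over X)) {Q Q' : Psh O} (g : Q ⟶ Q') :
    (extC O X).map (P ◁ (resC O X).map g) ≫ theta P Q' = theta P Q ≫ (extC O X).obj P ◁ g := by
  apply ((extCAdj O X).homEquiv _ _).injective
  rw [Adjunction.homEquiv_naturality_left, Adjunction.homEquiv_naturality_right, theta, theta,
    Equiv.apply_symm_apply, Equiv.apply_symm_apply, Category.assoc, ← Functor.LaxMonoidal.μ_natural_right,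
    MonoidalCategory.whisker_exchange_assoc]
  rfl

/-- `p ⊗ n` over an object of the slice -/
noncomputable abbrev tm (P : Psh (O.over X)) (Q : Psh O) (V : C) (f : V ⟶ X)
    (p : P.obj (op (Over.mk f))) (n : Q.obj (op V)) : (P ⊗ (resC O X).obj Q).obj (op (Over.mk f)) :=
  p ⊗ₜ[(O.over X).obj.obj (op (Over.mk f))] (n : ((resC O X).obj Q).obj (op (Over.mk f)))

/-- the inclusion of a summand -/
noncomputable abbrev inj (P : Psh (O.over X)) (V : C) (f : V ⟶ X) (p : P.obj (op (Over.mk f))) :
    ((extC O X).obj P).obj (op V) :=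
  Sigma.ι (OverExtend.KInjective.summand X P.presheaf (op V)) f p

/-- the pairing on a summand -/
noncomputable def pairι (P : Psh (O.over X)) (Q : Psh O) (V : C) (f : V ⟶ X) :
    OverExtend.KInjective.summand X P.presheaf (op V) f ⟶
      AddCommGrpCat.of (Q.obj (op V) →+ ((extC O X).obj (P ⊗ (resC O X).obj Q)).obj (op V)) :=
  AddCommGrpCat.ofHom
    { toFun := fun p =>
        { toFun := fun n => Sigma.ι (OverExtend.KInjective.summand X (P ⊗ (resC O X).obj Q).presheaf (op V)) f
            (tm P Q V f p n)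
          map_zero' := by
            exact (congrArg _ (TensorProduct.tmul_zero _ _)).trans (map_zero _)
          map_add' := fun n n' => (congrArg _ (TensorProduct.tmul_add _ _ _)).trans
            (map_add (Sigma.ι (OverExtend.KInjective.summand X (P ⊗ (resC O X).obj Q).presheaf (op V)) f).hom _ _) }
      map_zero' := AddMonoidHom.ext fun n => (congrArg _ (TensorProduct.zero_tmul _ _)).trans (map_zero (Sigma.ι (OverExtend.KInjective.summand X (P ⊗ (resC O X).obj Q).presheaf (op V)) f).hom)
      map_add' := fun p p' => AddMonoidHom.ext fun n =>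
        (congrArg _ (TensorProduct.add_tmul _ _ _)).trans
          (map_add (Sigma.ι (OverExtend.KInjective.summand X (P ⊗ (resC O X).obj Q).presheaf (op V)) f).hom _ _) }

theorem theta_app_ι (P : Psh (O.over X)) (Q : Psh O) (V : C) (f : V ⟶ X)
    (p : P.obj (op (Over.mk f))) (n : Q.obj (op V)) :
    (theta P Q).app (op V) (Sigma.ι (OverExtend.KInjective.summand X (P ⊗ (resC O X).obj Q).presheaf (op V)) f
      (tm P Q V f p n)) =
    inj P V f p ⊗ₜ[O.obj.obj (op V)] n := by
  have hu : ((extCAdj O X).unit.app P).app (op (Over.mk f)) p = inj P V f p := rfl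
  have h := congrArg (fun φ => PresheafOfModules.Hom.app φ (op (Over.mk f)) (tm P Q V f p n))
    (((extCAdj O X).homEquiv _ _).apply_symm_apply ((extCAdj O X).unit.app P ▷ (resC O X).obj Q ≫
      Functor.LaxMonoidal.μ (resC O X) ((extC O X).obj P) Q))
  refine Eq.trans h ?_
  exact congrArg (fun z : ((extC O X).obj P).obj (op V) => z ⊗ₜ[O.obj.obj (op V)] n) hu

theorem isIso_theta (P : Psh (O.over X)) (Q : Psh O) : IsIso (theta P Q) := by
  suffices h : ∀ V : C, Function.Bijective ((theta P Q).app (op V)) by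
    haveI : ∀ V : Cᵒᵖ, IsIso (((PresheafOfModules.toPresheaf _).map (theta P Q)).app V) := fun V =>
      (ConcreteCategory.isIso_iff_bijective _).2 (h V.unop)
    haveI := NatIso.isIso_of_isIso_app ((PresheafOfModules.toPresheaf _).map (theta P Q))
    exact isIso_of_reflects_iso _ (PresheafOfModules.toPresheaf _)
  intro V
  let g : ((extC O X).obj P).obj (op V) →+ Q.obj (op V) →+ ((extC O X).obj (P ⊗ (resC O X).obj Q)).obj (op V) :=
    (Sigma.desc fun f => pairι P Q V f).hom
  have hg : ∀ f (p : P.obj (op (Over.mk f))) n,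
      g (Sigma.ι (OverExtend.KInjective.summand X P.presheaf (op V)) f p) n =
        Sigma.ι (OverExtend.KInjective.summand X (P ⊗ (resC O X).obj Q).presheaf (op V)) f
          (tm P Q V f p n) := fun f p n =>
    Eq.trans (b := (pairι P Q V f).hom p n)
      (DFunLike.congr_fun (ConcreteCategory.congr_hom (Sigma.ι_desc (fun f => pairι P Q V f) f) p) n) rfl
  have bal : ∀ (r : O.obj.obj (op V)) x n, g (r • x) n = g x (r • n) := by
    intro r x n
    let a₁ : AddCommGrpCat.of ((extC O X).obj P |>.obj (op V)) ⟶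
        AddCommGrpCat.of ((extC O X).obj (P ⊗ (resC O X).obj Q) |>.obj (op V)) :=
      AddCommGrpCat.ofHom (((AddMonoidHom.eval n).comp g).comp (ExtZero9.act (U := X) (R := O.obj ⋙ forget₂ CommRingCat.{u} RingCat.{u}) P (op V) r).hom)
    let a₂ : AddCommGrpCat.of ((extC O X).obj P |>.obj (op V)) ⟶
        AddCommGrpCat.of ((extC O X).obj (P ⊗ (resC O X).obj Q) |>.obj (op V)) :=
      AddCommGrpCat.ofHom ((AddMonoidHom.eval (r • n)).comp g)
    refine ConcreteCategory.congr_hom (f := a₁) (g := a₂) (ExtZero9.sigma_hom_ext (U := X) (R := O.obj ⋙ forget₂ CommRingCat.{u} RingCat.{u}) P fun f m => ?_) x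
    show g (ExtZero9.act (U := X) (R := O.obj ⋙ forget₂ CommRingCat.{u} RingCat.{u}) P (op V) r _) n = g _ (r • n)
    rw [ExtZero9.act_ι (U := X) (R := O.obj ⋙ forget₂ CommRingCat.{u} RingCat.{u})]
    refine (hg f _ n).trans (Eq.trans ?_ (hg f m (r • n)).symm)
    exact congrArg _ (TensorProduct.smul_tmul (R := (O.over X).obj.obj (op (Over.mk f))) (R' := (O.over X).obj.obj (op (Over.mk f))) (M := P.obj (op (Over.mk f)))
      (N := ((resC O X).obj Q).obj (op (Over.mk f))) (r : (O.over X).obj.obj (op (Over.mk f))) m n)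
  let ψ : ((extC O X).obj P ⊗ Q).obj (op V) →+ ((extC O X).obj (P ⊗ (resC O X).obj Q)).obj (op V) :=
    TensorProduct.liftAddHom g bal
  let θ : ((extC O X).obj (P ⊗ (resC O X).obj Q)).obj (op V) →+ ((extC O X).obj P ⊗ Q).obj (op V) :=
    ((theta P Q).app (op V)).hom.toAddMonoidHom
  let T : Psh (O.over X) := P ⊗ (resC O X).obj Q
  have h1 : ∀ x, ψ (θ x) = x := by
    intro x
    refine ConcreteCategory.congr_hom (f := AddCommGrpCat.ofHom (ψ.comp θ)) (g := 𝟙 _)
      (ExtZero9.sigma_hom_ext (U := X) (R := O.obj ⋙ forget₂ CommRingCat.{u} RingCat.{u}) T fun f m => ?_) x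
    let iT : (P ⊗ (resC O X).obj Q).obj (op (Over.mk f)) →+ ((extC O X).obj (P ⊗ (resC O X).obj Q)).obj (op V) :=
      (Sigma.ι (OverExtend.KInjective.summand X (P ⊗ (resC O X).obj Q).presheaf (op V)) f).hom
    suffices ∀ z, ψ (θ (iT z)) = iT z from this m
    intro z
    induction z using TensorProduct.induction_on with
    | zero =>
      exact ((congrArg ψ (congrArg θ (map_zero iT))).trans ((congrArg ψ (map_zero θ)).trans (map_zero ψ))).trans
        (map_zero iT).symm
    | tmul p n => exact (congrArg ψ (theta_app_ι P Q V f p n)).trans (hg f p n)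
    | add a b ha hb =>
      exact ((congrArg ψ ((congrArg θ (map_add iT a b)).trans (map_add θ _ _))).trans (map_add ψ _ _)).trans
        ((congrArg₂ (· + ·) ha hb).trans (map_add iT a b).symm)
  have h2 : ∀ y, θ (ψ y) = y := by
    intro y
    induction y using TensorProduct.induction_on with
    | zero => exact (congrArg θ (map_zero ψ)).trans (map_zero θ)
    | add a b ha hb =>
      exact ((congrArg θ (map_add ψ a b)).trans (map_add θ _ _)).trans (congrArg₂ (· + ·) ha hb)
    | tmul x n =>
      let a₁ : AddCommGrpCat.of ((extC O X).obj P |>.obj (op V)) ⟶ AddCommGrpCat.of (((extC O X).obj P ⊗ Q).obj (op V)) :=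
        AddCommGrpCat.ofHom ((θ.comp (AddMonoidHom.eval n)).comp g)
      let a₂ : AddCommGrpCat.of ((extC O X).obj P |>.obj (op V)) ⟶ AddCommGrpCat.of (((extC O X).obj P ⊗ Q).obj (op V)) :=
        AddCommGrpCat.ofHom ((TensorProduct.mk (O.obj.obj (op V)) (((extC O X).obj P).obj (op V)) (Q.obj (op V))).flip n).toAddMonoidHom
      refine ConcreteCategory.congr_hom (f := a₁) (g := a₂) (ExtZero9.sigma_hom_ext (U := X) (R := O.obj ⋙ forget₂ CommRingCat.{u} RingCat.{u}) P fun f m => ?_) x
      show θ (g _ n) = _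
      exact (congrArg θ (hg f m n)).trans (theta_app_ι P Q V f m n)
  exact Function.bijective_iff_has_inverse.2 ⟨ψ, h1, h2⟩

end proj

/-- projection formula on presheaves, natural in the presheaf on the slice -/
noncomputable def projLeft (Q : Psh O) :
    tensorRight ((resC O X).obj Q) ⋙ extC O X ≅ extC O X ⋙ tensorRight Q :=
  NatIso.ofComponents (fun P => @asIso _ _ _ _ (theta P Q) (isIso_theta P Q))
    (fun f => theta_natural_left f Q)

/-- projection formula on presheaves, natural in the presheaf on the base -/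
noncomputable def projRight (P : Psh (O.over X)) :
    resC O X ⋙ tensorLeft P ⋙ extC O X ≅ tensorLeft ((extC O X).obj P) :=
  NatIso.ofComponents (fun Q => @asIso _ _ _ _ (theta P Q) (isIso_theta P Q))
    (fun g => theta_natural_right P g)

/-- `j_!(P ⊗ N|_X) ≅ j_! P ⊗ N`, natural in `P` -/
noncomputable def projFlip (N : ModSite.Mod O) :
    (ModSite.tensorBi (O.over X)).flip.obj ((ModSite.restr O X).obj N) ⋙ ModSite.extZero O X ≅
      ModSite.extZero O X ⋙ (ModSite.tensorBi O).flip.obj N :=
  haveI : IsIso (ModTensor.adj (O.over X)).counit :=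
    (inferInstance : IsIso (PresheafOfModules.sheafificationAdjunction (𝟙 (ModSite.ringSh (O.over X)).obj)).counit)
  Functor.isoWhiskerRight (flipIso (O.over X) ((ModSite.restr O X).obj N) ≪≫
      Functor.isoWhiskerLeft (fgt (O.over X)) (Functor.isoWhiskerRight
        ((tensoringRight (Psh (O.over X))).mapIso ((fgtResIso O X).app N)) (sh (O.over X)))) (ModSite.extZero O X) ≪≫
    Functor.isoWhiskerLeft (fgt (O.over X) ⋙ tensorRight ((resC O X).obj (psh N))) (extShIso O X) ≪≫
    Functor.isoWhiskerLeft (fgt (O.over X)) (Functor.isoWhiskerRight (projLeft O X (psh N)) (sh O)) ≪≫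
    Functor.isoWhiskerLeft (fgt (O.over X) ⋙ extC O X) (shCompTensorIso N) ≪≫
    Functor.isoWhiskerRight (Functor.isoWhiskerLeft (fgt (O.over X)) (extShIso O X).symm)
      ((ModSite.tensorBi O).flip.obj N) ≪≫
    Functor.isoWhiskerRight (asIso (ModTensor.adj (O.over X)).counit)
      (ModSite.extZero O X ⋙ (ModSite.tensorBi O).flip.obj N)

/-- `j_!(P ⊗ N|_X) ≅ j_! P ⊗ N`, natural in `N` -/
noncomputable def projObj (P : ModSite.Mod (O.over X)) :
    ModSite.restr O X ⋙ (ModSite.tensorBi (O.over X)).obj P ⋙ ModSite.extZero O X ≅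
      (ModSite.tensorBi O).obj ((ModSite.extZero O X).obj P) :=
  haveI : IsIso (ModTensor.adj (O.over X)).counit :=
    (inferInstance : IsIso (PresheafOfModules.sheafificationAdjunction (𝟙 (ModSite.ringSh (O.over X)).obj)).counit)
  Functor.isoWhiskerLeft (ModSite.restr O X) (Functor.isoWhiskerRight (objIso (O.over X) P) _) ≪≫
    Functor.isoWhiskerRight (fgtResIso O X) (tensorLeft (psh P) ⋙ sh (O.over X) ⋙ ModSite.extZero O X) ≪≫
    Functor.isoWhiskerLeft (fgt O ⋙ resC O X ⋙ tensorLeft (psh P)) (extShIso O X) ≪≫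
    Functor.isoWhiskerLeft (fgt O) (Functor.isoWhiskerRight
      (projRight O X (psh P) ≪≫ BraidedCategory.tensorLeftIsoTensorRight _) (sh O)) ≪≫
    tensorShIso ((extC O X).obj (psh P)) ≪≫
    (ModSite.tensorBi O).flip.mapIso
      (((extShIso O X).app (psh P)).symm ≪≫
        (ModSite.extZero O X).mapIso (@asIso _ _ _ _ _ (NatIso.isIso_app_of_isIso (ModTensor.adj (O.over X)).counit P))) ≪≫
    (commIso O ((ModSite.extZero O X).obj P)).symm

end Groth.Agent.ModSite9
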