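import Mathlib

/-!
`SheafOfModules.toSheaf` preserves colimits; restriction of scalars preserves limits and colimits.
-/

universe u

set_option autoImplicit false
set_option maxHeartbeats 400000

open CategoryTheory CategoryTheory.Limits Opposite

namespace Groth.Agent.ModSite9

variable {C : Type u} [SmallCategory C] {J : GrothendieckTopology C} (R : Sheaf J RingCat.{u})

instance toSheaf_preservesColimits : PreservesColimitsOfSize.{u, u} (SheafOfModules.toSheaf.{u} R) := by
  refine ⟨fun {I} _ => ⟨fun {K} => ?_⟩⟩
  let F := SheafOfModules.forget.{u} R ⋙ PresheafOfModules.restrictScalars (𝟙 R.obj)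
  let adj := PresheafOfModules.sheafificationAdjunction.{u} (𝟙 R.obj)
  let L := PresheafOfModules.sheafification.{u} (𝟙 R.obj)
  let c₀ := colimit.cocone (K ⋙ F)
  let e : K ≅ (K ⋙ F) ⋙ L := (Functor.isoWhiskerLeft K (asIso adj.counit)).symm
  let c : Cocone K := (Cocone.precompose e.hom).obj (L.mapCocone c₀)
  have hc : IsColimit c :=
    (IsColimit.precomposeHomEquiv e _).symm (isColimitOfPreserves L (colimit.isColimit (K ⋙ F)))
  refine preservesColimit_of_preserves_colimit_cocone hc ?_
  let T := SheafOfModules.toSheaf.{u} R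
  haveI : PreservesColimitsOfSize.{u, u} (L ⋙ T) :=
    haveI : PreservesColimitsOfSize.{u, u} (PresheafOfModules.toPresheaf R.obj ⋙ presheafToSheaf J AddCommGrpCat.{u}) :=
      inferInstance
    preservesColimits_of_natIso (PresheafOfModules.sheafificationCompToSheaf (𝟙 R.obj)).symm
  exact ((IsColimit.precomposeHomEquiv (Functor.isoWhiskerRight e T) _).symm
      (isColimitOfPreserves (L ⋙ T) (colimit.isColimit (K ⋙ F)))).ofIsoColimit
    (Cocone.ext (Iso.refl _) fun i => (Category.comp_id _).trans (T.map_comp _ _).symm)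

variable {R} {A B : Sheaf J RingCat.{u}} (φ : A ⟶ B)

theorem restrictScalars_limits_colimits :
    PreservesLimitsOfSize.{u, u} (SheafOfModules.restrictScalars.{u} φ) ∧
    PreservesColimitsOfSize.{u, u} (SheafOfModules.restrictScalars.{u} φ) ∧
    (SheafOfModules.restrictScalars.{u} φ).ReflectsIsomorphisms := by
  let e : SheafOfModules.restrictScalars.{u} φ ⋙ SheafOfModules.toSheaf A ≅ SheafOfModules.toSheaf B :=
    NatIso.ofComponents (fun _ => Iso.refl _) (fun _ => (Category.comp_id _).trans (Category.id_comp _).symm)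
  haveI hB : PreservesLimitsOfSize.{u, u} (SheafOfModules.toSheaf.{u} B) := by
    haveI : PreservesLimitsOfSize.{u, u} (SheafOfModules.toSheaf.{u} B ⋙ sheafToPresheaf J AddCommGrpCat.{u}) :=
      inferInstanceAs (PreservesLimitsOfSize.{u, u} (SheafOfModules.forget.{u} B ⋙ PresheafOfModules.toPresheaf _))
    exact preservesLimits_of_reflects_of_preserves (SheafOfModules.toSheaf.{u} B) (sheafToPresheaf J AddCommGrpCat.{u})
  haveI hA : PreservesLimitsOfSize.{u, u} (SheafOfModules.toSheaf.{u} A) := by
    haveI : PreservesLimitsOfSize.{u, u} (SheafOfModules.toSheaf.{u} A ⋙ sheafToPresheaf J AddCommGrpCat.{u}) :=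
      inferInstanceAs (PreservesLimitsOfSize.{u, u} (SheafOfModules.forget.{u} A ⋙ PresheafOfModules.toPresheaf _))
    exact preservesLimits_of_reflects_of_preserves (SheafOfModules.toSheaf.{u} A) (sheafToPresheaf J AddCommGrpCat.{u})
  haveI : ReflectsLimitsOfSize.{u, u} (SheafOfModules.toSheaf.{u} A) :=
    reflectsLimits_of_reflectsIsomorphisms
  haveI : HasColimitsOfSize.{u, u} (SheafOfModules.{u} A) := inferInstance
  haveI : ReflectsColimitsOfSize.{u, u} (SheafOfModules.toSheaf.{u} A) :=
    reflectsColimits_of_reflectsIsomorphisms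
  haveI : PreservesLimitsOfSize.{u, u} (SheafOfModules.restrictScalars.{u} φ ⋙ SheafOfModules.toSheaf A) :=
    preservesLimits_of_natIso e.symm
  haveI : PreservesColimitsOfSize.{u, u} (SheafOfModules.restrictScalars.{u} φ ⋙ SheafOfModules.toSheaf A) :=
    preservesColimits_of_natIso e.symm
  haveI : (SheafOfModules.restrictScalars.{u} φ ⋙ SheafOfModules.toSheaf A).ReflectsIsomorphisms :=
    reflectsIsomorphisms_of_iso e.symm
  exact ⟨preservesLimits_of_reflects_of_preserves _ (SheafOfModules.toSheaf A),
    preservesColimits_of_reflects_of_preserves _ (SheafOfModules.toSheaf A),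
    reflectsIsomorphisms_of_comp _ (SheafOfModules.toSheaf A)⟩

end Groth.Agent.ModSite9
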